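import Mathlib

/-!
# Rigidity lemma: two morphisms whose pullbacks of functions have equal germs agree locally
-/

set_option autoImplicit false
universe u

open AlgebraicGeometry CategoryTheory Limits TopologicalSpace Opposite

namespace Groth.Agent.Lib.Helper24.Rigid

variable {X Y : Scheme.{u}}

theorem eq_of_appLE_eq (f g : X ⟶ Y) (U : Y.Opens) (hU : IsAffineOpen U) (N : X.Opens)
    (hf : N ≤ f ⁻¹ᵁ U) (hg : N ≤ g ⁻¹ᵁ U) (h : f.appLE U N hf = g.appLE U N hg) :
    N.ι ≫ f = N.ι ≫ g := by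
  haveI : IsAffine U.toScheme := hU
  have : f.resLE U N hf = g.resLE U N hg := by
    apply ext_of_isAffine
    change (f.resLE U N hf).app ⊤ = (g.resLE U N hg).app ⊤
    rw [Scheme.Hom.resLE_app_top, Scheme.Hom.resLE_app_top, h]
  rw [← Scheme.Hom.resLE_comp_ι f hf, ← Scheme.Hom.resLE_comp_ι g hg, this]

theorem exists_nhd_res_eq_zero (W : X.Opens) (x : X) (hx : x ∈ W) (T : Finset Γ(X, W))
    (hT : ∀ t ∈ T, X.presheaf.germ W x hx t = 0) :
    ∃ (N : X.Opens) (hN : N ≤ W), x ∈ N ∧ ∀ t ∈ T, X.presheaf.map (homOfLE hN).op t = 0 := by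
  classical
  induction T using Finset.induction_on with
  | empty => exact ⟨W, le_rfl, hx, by simp⟩
  | insert a T ha ih =>
    obtain ⟨N, hN, hxN, hNT⟩ := ih fun t ht => hT t (Finset.mem_insert_of_mem ht)
    have h0 : X.presheaf.germ W x hx a = X.presheaf.germ W x hx 0 := by
      rw [hT a (Finset.mem_insert_self a T), map_zero]
    obtain ⟨N', hxN', i₁, i₂, hres⟩ := X.presheaf.germ_eq x hx hx a 0 h0
    have hxx : x ∈ N ⊓ N' := ⟨hxN, hxN'⟩
    refine ⟨N ⊓ N', inf_le_left.trans hN, hxx, ?_⟩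
    intro t ht
    rcases Finset.mem_insert.mp ht with rfl | ht
    · have : X.presheaf.map (homOfLE (inf_le_left.trans hN : N ⊓ N' ≤ W)).op t =
          X.presheaf.map (homOfLE (inf_le_right : N ⊓ N' ≤ N')).op (X.presheaf.map i₁.op t) := by
        rw [← CommRingCat.comp_apply, ← X.presheaf.map_comp]
        rfl
      rw [this, hres, map_zero, map_zero]
    · have : X.presheaf.map (homOfLE (inf_le_left.trans hN : N ⊓ N' ≤ W)).op t =
          X.presheaf.map (homOfLE (inf_le_left : N ⊓ N' ≤ N)).op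
            (X.presheaf.map (homOfLE hN).op t) := by
        rw [← CommRingCat.comp_apply, ← X.presheaf.map_comp]
        rfl
      rw [this, hNT t ht, map_zero]

theorem exists_nhd_eq_of_germ_eq [IsLocallyNoetherian X] (f g : X ⟶ Y) (U : Y.Opens)
    (hU : IsAffineOpen U) (x : X) (hfx : f x ∈ U) (hgx : g x ∈ U)
    (h : ∀ r : Γ(Y, U), X.presheaf.germ (f ⁻¹ᵁ U) x hfx (f.app U r) =
      X.presheaf.germ (g ⁻¹ᵁ U) x hgx (g.app U r)) :
    ∃ N : X.Opens, x ∈ N ∧ N.ι ≫ f = N.ι ≫ g := by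
  classical
  obtain ⟨W, hW, hxW, hWle⟩ := exists_isAffineOpen_mem_and_subset (x := x)
    (U := f ⁻¹ᵁ U ⊓ g ⁻¹ᵁ U) ⟨hfx, hgx⟩
  have hWf : W ≤ f ⁻¹ᵁ U := hWle.trans inf_le_left
  have hWg : W ≤ g ⁻¹ᵁ U := hWle.trans inf_le_right
  haveI : IsNoetherianRing Γ(X, W) := IsLocallyNoetherian.component_noetherian ⟨W, hW⟩
  let φ := f.appLE U W hWf
  let φ' := g.appLE U W hWg
  have hgermφ : ∀ r, X.presheaf.germ W x hxW (φ r) = X.presheaf.germ (f ⁻¹ᵁ U) x hfx (f.app U r) := by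
    intro r
    exact X.presheaf.germ_res_apply (homOfLE hWf) x hxW (f.app U r)
  have hgermφ' : ∀ r, X.presheaf.germ W x hxW (φ' r) =
      X.presheaf.germ (g ⁻¹ᵁ U) x hgx (g.app U r) := by
    intro r
    exact X.presheaf.germ_res_apply (homOfLE hWg) x hxW (g.app U r)
  let J : Ideal Γ(X, W) := Ideal.span (Set.range fun r : Γ(Y, U) => φ r - φ' r)
  obtain ⟨T, hTJ⟩ : J.FG := IsNoetherian.noetherian J
  have hJker : J ≤ RingHom.ker (X.presheaf.germ W x hxW).hom := by
    rw [Ideal.span_le]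
    rintro _ ⟨r, rfl⟩
    change (X.presheaf.germ W x hxW).hom (φ r - φ' r) = 0
    rw [map_sub, sub_eq_zero]
    exact (hgermφ r).trans ((h r).trans (hgermφ' r).symm)
  have hT : ∀ t ∈ T, X.presheaf.germ W x hxW t = 0 := by
    intro t ht
    have : t ∈ J := by rw [← hTJ]; exact Ideal.subset_span ht
    exact hJker this
  obtain ⟨N, hN, hxN, hNT⟩ := exists_nhd_res_eq_zero W x hxW T hT
  refine ⟨N, hxN, ?_⟩
  have hJres : J ≤ RingHom.ker (X.presheaf.map (homOfLE hN).op).hom := by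
    rw [← hTJ, Ideal.span_le]
    intro t ht
    exact hNT t ht
  refine eq_of_appLE_eq f g U hU N (hN.trans hWf) (hN.trans hWg) ?_
  rw [← Scheme.Hom.appLE_map f hWf (homOfLE hN).op, ← Scheme.Hom.appLE_map g hWg (homOfLE hN).op]
  ext r
  have : φ r - φ' r ∈ J := Ideal.subset_span ⟨r, rfl⟩
  have h2 := hJres this
  rw [RingHom.mem_ker, map_sub, sub_eq_zero] at h2
  exact h2

end Groth.Agent.Lib.Helper24.Rigid
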