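import Mathlib

/-!
# Rigidity lemma: the algebra

Coefficients of an element of `J M` with respect to a family `ε` independent modulo `J`, over a
flat module.
-/

universe u

namespace Groth.Agent.Lib.Helper24.Rigid

open Module

/-- Let `M` be a flat `A`-module, `m J` ideals of `A`, and `ε` a finite family of elements of `A`
which is "independent modulo `J` over `A/m`": `∑ aᵢ εᵢ ∈ J` forces all `aᵢ ∈ m`. If
`∑ εᵢ cᵢ ∈ J M` then all `cᵢ ∈ m M`. -/
theorem coeff_mem_of_flat {A M : Type*} [CommRing A] [AddCommGroup M] [Module A M]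
    [Module.Flat A M] (m J : Ideal A) {r : ℕ} (ε : Fin r → A)
    (hind : ∀ a : Fin r → A, ∑ i, a i * ε i ∈ J → ∀ i, a i ∈ m)
    (c : Fin r → M) (hc : ∑ i, ε i • c i ∈ J • (⊤ : Submodule A M)) :
    ∀ i, c i ∈ m • (⊤ : Submodule A M) := by
  classical
  have htop : (⊤ : Submodule A M) = Submodule.span A (Set.range (id : M → M)) := by simp
  rw [htop, Submodule.mem_ideal_smul_span_iff_exists_sum] at hc
  obtain ⟨a, ha, hsum⟩ := hc
  -- the relation
  let ι := Fin r ⊕ ↥a.support
  let f : ι → A := Sum.elim ε (fun d => - a d)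
  let x : ι → M := Sum.elim c (fun d => (d : M))
  have hrel : ∑ i, f i • x i = 0 := by
    rw [Fintype.sum_sum_type]
    simp only [f, x, Sum.elim_inl, Sum.elim_inr, neg_smul, Finset.sum_neg_distrib]
    rw [← hsum, Finsupp.sum, ← Finset.sum_coe_sort a.support]
    simp
  obtain ⟨k, α, y, hx, hα⟩ := Module.Flat.isTrivialRelation_of_sum_smul_eq_zero hrel
  have hαm : ∀ (i : Fin r) (j : Fin k), α (Sum.inl i) j ∈ m := by
    intro i j
    refine hind (fun i => α (Sum.inl i) j) ?_ i
    have := hα j
    rw [Fintype.sum_sum_type] at this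
    simp only [f, Sum.elim_inl, Sum.elim_inr, neg_mul, Finset.sum_neg_distrib] at this
    have h2 : ∑ i, α (Sum.inl i) j * ε i = ∑ d : ↥a.support, a d * α (Sum.inr d) j := by
      rw [← sub_eq_zero, ← this]
      simp [sub_eq_add_neg, mul_comm]
    rw [h2]
    exact J.sum_mem fun d _ => J.mul_mem_right _ (ha d)
  intro i
  have := hx (Sum.inl i)
  simp only [x, Sum.elim_inl] at this
  rw [this]
  exact Submodule.sum_mem _ fun j _ => Submodule.smul_mem_smul (hαm i j) trivial

end Groth.Agent.Lib.Helper24.Rigid
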