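import Mathlib

/-!
# Rigidity lemma: minimal generators modulo `m I`
-/

universe u

namespace Groth.Agent.Lib.Helper24.Rigid

open IsLocalRing

/-- In a Noetherian local ring `(A, m)`, an ideal `I` has a finite family `ε` of elements which
spans `I` modulo `m I` and is independent modulo `m I` over `A/m`. -/
theorem exists_indep_gens (A : Type*) [CommRing A] [IsLocalRing A] [IsNoetherianRing A]
    (I : Ideal A) :
    ∃ (r : ℕ) (ε : Fin r → A), (∀ i, ε i ∈ I) ∧
      I ≤ Ideal.span (Set.range ε) ⊔ maximalIdeal A * I ∧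
      ∀ a : Fin r → A, ∑ i, a i * ε i ∈ maximalIdeal A * I → ∀ i, a i ∈ maximalIdeal A := by
  classical
  let m := maximalIdeal A
  let k := A ⧸ m
  letI : Field k := Ideal.Quotient.field m
  let Q := ↥I ⧸ (m • ⊤ : Submodule A ↥I)
  haveI : Module.Finite A ↥I := Module.Finite.of_fg (IsNoetherian.noetherian I)
  haveI : Module.Finite A Q := inferInstance
  haveI : Module.Finite k Q := Module.Finite.of_restrictScalars_finite A k Q
  let b := Module.finBasis k Q
  let r := Module.finrank k Q
  have hsurj : Function.Surjective (Submodule.mkQ (m • ⊤ : Submodule A ↥I)) :=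
    Submodule.mkQ_surjective _
  choose lift hlift using hsurj
  let ε' : Fin r → ↥I := fun i => lift (b i)
  have hmem : ∀ w : ↥I, (m • ⊤ : Submodule A ↥I).mkQ w = 0 ↔ (w : A) ∈ m * I := by
    intro w
    rw [Submodule.mkQ_apply, Submodule.Quotient.mk_eq_zero, Submodule.mem_smul_top_iff,
      smul_eq_mul]
  have hsmul : ∀ (a : A) (w : ↥I), (m • ⊤ : Submodule A ↥I).mkQ (a • w) =
      (Ideal.Quotient.mk m a : k) • (m • ⊤ : Submodule A ↥I).mkQ w := fun a w => rfl
  refine ⟨r, fun i => (ε' i : A), fun i => (ε' i).2, ?_, ?_⟩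
  · intro x hx
    obtain ⟨c, hc⟩ : ∃ c : Fin r → k, (m • ⊤ : Submodule A ↥I).mkQ ⟨x, hx⟩ = ∑ i, c i • b i :=
      ⟨fun i => b.repr _ i, (b.sum_repr _).symm⟩
    have hcs : ∀ i, ∃ a : A, Ideal.Quotient.mk m a = c i := fun i =>
      Ideal.Quotient.mk_surjective (c i)
    choose a ha using hcs
    have hz : (m • ⊤ : Submodule A ↥I).mkQ (⟨x, hx⟩ - ∑ i, a i • ε' i) = 0 := by
      rw [map_sub, map_sum, hc, sub_eq_zero]
      refine Finset.sum_congr rfl fun i _ => ?_
      rw [hsmul, ha, hlift]
    rw [hmem] at hz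
    have hx' : x = (∑ i, a i * (ε' i : A)) + (x - ∑ i, a i * (ε' i : A)) := by ring
    rw [hx']
    refine Submodule.add_mem_sup ?_ ?_
    · exact Ideal.sum_mem _ fun i _ => Ideal.mul_mem_left _ _ (Ideal.subset_span ⟨i, rfl⟩)
    · simpa using hz
  · intro a hsum i
    have hz : (m • ⊤ : Submodule A ↥I).mkQ (∑ i, a i • ε' i) = 0 := by
      rw [hmem]
      simpa using hsum
    rw [map_sum] at hz
    simp only [hsmul, ε', hlift] at hz
    have := (Fintype.linearIndependent_iff.mp b.linearIndependent) (fun i => Ideal.Quotient.mk m (a i))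
      hz i
    exact Ideal.Quotient.eq_zero_iff_mem.mp this

end Groth.Agent.Lib.Helper24.Rigid
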