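import Mathlib
import Groth.Agent.Lib.Helper24.FibStalk.Main9501

/-!
# Rigidity lemma: local rings along a fibre

For `p : X ⟶ S` and `s : S`, the local rings of `X` at the points of the fibre over `s` as algebras
over the local ring of `S` at `s`, and gluing of families of germs along the fibre.
-/

set_option autoImplicit false
universe u

open AlgebraicGeometry CategoryTheory Limits TopologicalSpace IsLocalRing Opposite

namespace Groth.Agent.Lib.Helper24.Rigid

variable {X S : Scheme.{u}} (p : X ⟶ S) (s : S)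

lemma p_fiberι (z : ↥(p.fiber s)) : p (p.fiberι s z) = s := by
  have : p.fiberι s z ∈ p ⁻¹' {s} := by rw [← p.range_fiberι s]; exact ⟨z, rfl⟩
  exact this

lemma exists_fiberι_eq (x : X) (hx : p x = s) : ∃ z : ↥(p.fiber s), p.fiberι s z = x := by
  have : x ∈ Set.range (p.fiberι s) := by rw [p.range_fiberι s]; exact hx
  exact this

/-- The local ring of `X` at a point of the fibre, as an algebra over the local ring at `s`. -/
noncomputable def ψ (z : ↥(p.fiber s)) :
    S.presheaf.stalk s ⟶ X.presheaf.stalk (p.fiberι s z) :=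
  S.presheaf.stalkSpecializes (specializes_of_eq (p_fiberι p s z)) ≫ p.stalkMap (p.fiberι s z)

lemma mem_preimage_of_mem (V : S.Opens) (hs : s ∈ V) (z : ↥(p.fiber s)) :
    p.fiberι s z ∈ p ⁻¹ᵁ V := by
  change p (p.fiberι s z) ∈ V
  rw [p_fiberι]; exact hs

lemma ψ_germ (V : S.Opens) (hs : s ∈ V) (a : Γ(S, V)) (z : ↥(p.fiber s)) :
    (ψ p s z).hom (S.presheaf.germ V s hs a) =
      X.presheaf.germ (p ⁻¹ᵁ V) (p.fiberι s z) (mem_preimage_of_mem p s V hs z) (p.app V a) := by
  unfold ψ
  rw [CommRingCat.hom_comp, RingHom.comp_apply]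
  have h1 := TopCat.Presheaf.germ_stalkSpecializes_apply S.presheaf hs
    (specializes_of_eq (p_fiberι p s z)) a
  erw [h1]
  exact Scheme.Hom.germ_stalkMap_apply p V (p.fiberι s z) _ a

lemma isIso_stalkSpecializes (z : ↥(p.fiber s)) :
    IsIso (S.presheaf.stalkSpecializes (specializes_of_eq (p_fiberι p s z))) :=
  Groth.Agent.Lib.Helper21.FibreStalk.isIso_stalkSpecializes_of_eq (p_fiberι p s z)

lemma ker_stalkMap_fiberι (z : ↥(p.fiber s)) :
    RingHom.ker ((p.fiberι s).stalkMap z).hom =
      Ideal.map (ψ p s z).hom (maximalIdeal (S.presheaf.stalk s)) := by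
  rw [(FibStalk.main9501 p s z).2]
  unfold ψ
  rw [CommRingCat.hom_comp, ← Ideal.map_map]
  congr 1
  haveI := isIso_stalkSpecializes p s z
  have hbij : Function.Bijective
      (S.presheaf.stalkSpecializes (specializes_of_eq (p_fiberι p s z))).hom :=
    (ConcreteCategory.isIso_iff_bijective _).1 inferInstance
  exact (IsLocalRing.map_maximalIdeal_of_surjective _ hbij.2).symm

lemma stalkMap_fiberι_surjective (z : ↥(p.fiber s)) :
    Function.Surjective ((p.fiberι s).stalkMap z).hom :=
  (FibStalk.main9501 p s z).1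

lemma flat_ψ [Flat p] (z : ↥(p.fiber s)) : (ψ p s z).hom.Flat := by
  unfold ψ
  rw [CommRingCat.hom_comp]
  refine RingHom.Flat.comp ?_ (Flat.stalkMap p _)
  haveI := isIso_stalkSpecializes p s z
  exact RingHom.Flat.of_bijective ((ConcreteCategory.isIso_iff_bijective _).1 inferInstance)

end Groth.Agent.Lib.Helper24.Rigid
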