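import Mathlib
import Groth.Agent.Lib.Helper24.Rigid.Fibre

/-!
# Rigidity lemma: gluing germs along a fibre
-/

set_option autoImplicit false
universe u

open AlgebraicGeometry CategoryTheory Limits TopologicalSpace IsLocalRing Opposite

namespace Groth.Agent.Lib.Helper24.Rigid

variable {X S : Scheme.{u}} (p : X ⟶ S) (s : S)

/-- A family of germs along the fibre which, locally and modulo the ideal of the fibre, is given
by sections of `O_X`. -/
def IsLocRep (c : ∀ z : ↥(p.fiber s), X.presheaf.stalk (p.fiberι s z)) : Prop :=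
  ∀ z : ↥(p.fiber s), ∃ (W : X.Opens) (_ : p.fiberι s z ∈ W) (σ : Γ(X, W)),
    ∀ (z' : ↥(p.fiber s)) (hz' : p.fiberι s z' ∈ W),
      ((p.fiberι s).stalkMap z').hom (c z') =
        ((p.fiberι s).stalkMap z').hom (X.presheaf.germ W _ hz' σ)

theorem exists_glue (c : ∀ z : ↥(p.fiber s), X.presheaf.stalk (p.fiberι s z))
    (hc : IsLocRep p s c) :
    ∃ τ : Γ(p.fiber s, ⊤), ∀ z : ↥(p.fiber s),
      (p.fiber s).presheaf.germ ⊤ z trivial τ = ((p.fiberι s).stalkMap z).hom (c z) := by
  choose W hW σ hσ using hc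
  let U : ↥(p.fiber s) → (p.fiber s).Opens := fun z => (p.fiberι s) ⁻¹ᵁ (W z)
  let sf : ∀ z : ↥(p.fiber s), Γ(p.fiber s, U z) := fun z => (p.fiberι s).app (W z) (σ z)
  have hgerm : ∀ (z z' : ↥(p.fiber s)) (hz' : z' ∈ U z),
      (p.fiber s).presheaf.germ (U z) z' hz' (sf z) = ((p.fiberι s).stalkMap z').hom (c z') := by
    intro z z' hz'
    rw [hσ z z' hz']
    exact (Scheme.Hom.germ_stalkMap_apply (p.fiberι s) (W z) z' hz' (σ z)).symm
  have hcompat : TopCat.Presheaf.IsCompatible (p.fiber s).presheaf U sf := by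
    intro i j
    apply TopCat.Presheaf.section_ext (p.fiber s).sheaf
    intro z' hz'
    change (p.fiber s).presheaf.germ _ z' hz' ((p.fiber s).presheaf.map _ (sf i)) =
      (p.fiber s).presheaf.germ _ z' hz' ((p.fiber s).presheaf.map _ (sf j))
    rw [TopCat.Presheaf.germ_res_apply, TopCat.Presheaf.germ_res_apply]
    exact (hgerm i z' hz'.1).trans (hgerm j z' hz'.2).symm
  obtain ⟨τ, hτ, -⟩ := TopCat.Sheaf.existsUnique_gluing' (p.fiber s).sheaf U ⊤
    (fun z => homOfLE le_top) (fun z _ => Opens.mem_iSup.mpr ⟨z, hW z⟩) sf hcompat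
  refine ⟨τ, fun z => ?_⟩
  rw [← hgerm z z (hW z), ← hτ z]
  exact (TopCat.Presheaf.germ_res_apply (p.fiber s).presheaf (homOfLE le_top) z (hW z) τ).symm

end Groth.Agent.Lib.Helper24.Rigid

namespace Groth.Agent.Lib.Helper24.Rigid

variable {X S : Scheme.{u}} (p : X ⟶ S) (s : S)

/-- If all global functions on the fibre come from the residue field, a locally representable
family of germs along the fibre consists either of elements of the ideal of the fibre, or of
units. -/
theorem dichotomy (h0 : Function.Surjective (p.fiberToSpecResidueField s).appTop.hom)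
    (c : ∀ z : ↥(p.fiber s), X.presheaf.stalk (p.fiberι s z)) (hc : IsLocRep p s c) :
    (∀ z, c z ∈ Ideal.map (ψ p s z).hom (maximalIdeal (S.presheaf.stalk s))) ∨
      (∀ z, IsUnit (c z)) := by
  obtain ⟨τ, hτ⟩ := exists_glue p s c hc
  obtain ⟨α, rfl⟩ := h0 τ
  have hfield : IsField Γ(Spec (S.residueField s), ⊤) :=
    (Scheme.ΓSpecIso (S.residueField s)).commRingCatIsoToRingEquiv.toMulEquiv.isField
      (Field.toIsField _)
  by_cases hα : α = 0
  · left
    intro z
    rw [← ker_stalkMap_fiberι, RingHom.mem_ker, ← hτ z, hα, map_zero, map_zero]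
  · right
    intro z
    have hu : IsUnit α := by
      obtain ⟨β, hβ⟩ := hfield.mul_inv_cancel hα
      exact IsUnit.of_mul_eq_one _ hβ
    have h2 : IsUnit (((p.fiberι s).stalkMap z).hom (c z)) := by
      rw [← hτ z]
      exact (hu.map _).map _
    exact isUnit_of_map_unit ((p.fiberι s).stalkMap z).hom _ h2

end Groth.Agent.Lib.Helper24.Rigid
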