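import Mathlib

/-!
# Finitely many germs are germs of sections over a common open
-/

set_option autoImplicit false
universe u

open AlgebraicGeometry CategoryTheory Limits TopologicalSpace Opposite

namespace Groth.Agent.Lib.Helper24.Rigid

theorem exists_common_sections {Z : Scheme.{u}} (x : Z) :
    ∀ (n : ℕ) (g : Fin n → Z.presheaf.stalk x),
      ∃ (W : Z.Opens) (hx : x ∈ W) (σ : Fin n → Γ(Z, W)),
        ∀ i, Z.presheaf.germ W x hx (σ i) = g i := by
  intro n
  induction n with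
  | zero =>
    intro g
    exact ⟨⊤, trivial, fun i => i.elim0, fun i => i.elim0⟩
  | succ n ih =>
    intro g
    obtain ⟨W, hx, σ, hσ⟩ := ih (fun i => g i.succ)
    obtain ⟨W₀, hx₀, σ₀, hσ₀⟩ := Z.presheaf.exists_germ_eq (g 0)
    have hxx : x ∈ W₀ ⊓ W := ⟨hx₀, hx⟩
    refine ⟨W₀ ⊓ W, hxx,
      Fin.cons (Z.presheaf.map (homOfLE inf_le_left).op σ₀)
        (fun i => Z.presheaf.map (homOfLE inf_le_right).op (σ i)), ?_⟩
    intro i
    refine Fin.cases ?_ (fun i => ?_) i
    · rw [Fin.cons_zero]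
      exact (Z.presheaf.germ_res_apply (homOfLE inf_le_left) x hxx σ₀).trans hσ₀
    · rw [Fin.cons_succ]
      exact (Z.presheaf.germ_res_apply (homOfLE inf_le_right) x hxx (σ i)).trans (hσ i)

/-- shrink the open -/
theorem exists_common_sections_le {Z : Scheme.{u}} (x : Z) (N : Z.Opens) (hN : x ∈ N)
    (n : ℕ) (g : Fin n → Z.presheaf.stalk x) :
    ∃ (W : Z.Opens) (hx : x ∈ W) (_ : W ≤ N) (σ : Fin n → Γ(Z, W)),
      ∀ i, Z.presheaf.germ W x hx (σ i) = g i := by
  obtain ⟨W, hx, σ, hσ⟩ := exists_common_sections x n g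
  have hxx : x ∈ W ⊓ N := ⟨hx, hN⟩
  refine ⟨W ⊓ N, hxx, inf_le_right,
    fun i => Z.presheaf.map (homOfLE inf_le_left).op (σ i), fun i => ?_⟩
  exact (Z.presheaf.germ_res_apply (homOfLE inf_le_left) x hxx (σ i)).trans (hσ i)

end Groth.Agent.Lib.Helper24.Rigid
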