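import Mathlib
import Groth.Agent.Lib.Helper24.Rigid.Alg
import Groth.Agent.Lib.Helper24.Rigid.Gens
import Groth.Agent.Lib.Helper24.Rigid.Glue
import Groth.Agent.Lib.Helper24.Rigid.Sections

/-!
# Rigidity lemma: coefficients along the fibre are locally representable
-/

set_option autoImplicit false
universe u

open AlgebraicGeometry CategoryTheory Limits TopologicalSpace IsLocalRing Opposite

namespace Groth.Agent.Lib.Helper24.Rigid

theorem mem_map_iff_exists_fin {A B : Type*} [CommRing A] [CommRing B] (f : A →+* B) (J : Ideal A)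
    (x : B) : x ∈ Ideal.map f J ↔
      ∃ (t : ℕ) (d : Fin t → B) (η : Fin t → A), (∀ j, η j ∈ J) ∧ x = ∑ j, d j * f (η j) := by
  constructor
  · intro hx
    rw [Ideal.map, Ideal.span, Submodule.mem_span_set'] at hx
    obtain ⟨t, d, g, rfl⟩ := hx
    have hg : ∀ j, ∃ η ∈ J, f η = (g j : B) := fun j => (g j).2
    choose η hηJ hη using hg
    exact ⟨t, d, η, hηJ, by simp [hη]⟩
  · rintro ⟨t, d, η, hη, rfl⟩
    exact Ideal.sum_mem _ fun j _ => Ideal.mul_mem_left _ _ (Ideal.mem_map_of_mem f (hη j))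

variable {X S : Scheme.{u}} (p : X ⟶ S) (s : S)

/-- uniqueness of the coefficients modulo the ideal of the fibre -/
theorem coeff_congr [Flat p] (J : Ideal (S.presheaf.stalk s)) {r : ℕ}
    (ε : Fin r → S.presheaf.stalk s)
    (hind : ∀ a : Fin r → S.presheaf.stalk s, ∑ i, a i * ε i ∈ J →
      ∀ i, a i ∈ maximalIdeal (S.presheaf.stalk s))
    (z : ↥(p.fiber s)) (C c : Fin r → X.presheaf.stalk (p.fiberι s z))
    (h : ∑ i, (ψ p s z).hom (ε i) * (C i - c i) ∈ Ideal.map (ψ p s z).hom J) (i : Fin r) :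
    ((p.fiberι s).stalkMap z).hom (c i) = ((p.fiberι s).stalkMap z).hom (C i) := by
  letI := (ψ p s z).hom.toAlgebra
  haveI : Module.Flat (S.presheaf.stalk s) (X.presheaf.stalk (p.fiberι s z)) := flat_ψ p s z
  have hmap : ∀ I : Ideal (S.presheaf.stalk s), ∀ y : X.presheaf.stalk (p.fiberι s z),
      y ∈ I • (⊤ : Submodule (S.presheaf.stalk s) (X.presheaf.stalk (p.fiberι s z))) ↔
        y ∈ Ideal.map (ψ p s z).hom I := by
    intro I y
    rw [Ideal.smul_top_eq_map]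
    rfl
  have h' : ∑ i, ε i • (C i - c i) ∈
      J • (⊤ : Submodule (S.presheaf.stalk s) (X.presheaf.stalk (p.fiberι s z))) := by
    rw [hmap]
    simpa [Algebra.smul_def, RingHom.algebraMap_toAlgebra] using h
  have key := coeff_mem_of_flat (maximalIdeal (S.presheaf.stalk s)) J ε hind (fun i => C i - c i) h' i
  rw [hmap, ← ker_stalkMap_fiberι, RingHom.mem_ker, map_sub, sub_eq_zero] at key
  exact key.symm

/-- The coefficients of `b` with respect to `ε`, modulo `J`, form locally representable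
families. -/
theorem locRep_of_decomposition [Flat p] (J : Ideal (S.presheaf.stalk s)) {r : ℕ}
    (ε : Fin r → S.presheaf.stalk s)
    (hind : ∀ a : Fin r → S.presheaf.stalk s, ∑ i, a i * ε i ∈ J →
      ∀ i, a i ∈ maximalIdeal (S.presheaf.stalk s))
    (N₀ : X.Opens) (hN₀ : ∀ z : ↥(p.fiber s), p.fiberι s z ∈ N₀) (b : Γ(X, N₀))
    (c : ∀ z : ↥(p.fiber s), Fin r → X.presheaf.stalk (p.fiberι s z))
    (hc : ∀ z, X.presheaf.germ N₀ _ (hN₀ z) b - ∑ i, (ψ p s z).hom (ε i) * c z i ∈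
      Ideal.map (ψ p s z).hom J)
    (i₀ : Fin r) : IsLocRep p s (fun z => c z i₀) := by
  intro z
  obtain ⟨t, d, η, hηJ, hD⟩ := (mem_map_iff_exists_fin _ _ _).mp (hc z)
  -- sections on the base
  obtain ⟨V₁, hsV₁, ε', hε'⟩ := exists_common_sections s r ε
  obtain ⟨V₂, hsV₂, η', hη'⟩ := exists_common_sections s t η
  -- sections on `X`
  have hzN : p.fiberι s z ∈ N₀ ⊓ p ⁻¹ᵁ V₁ ⊓ p ⁻¹ᵁ V₂ :=
    ⟨⟨hN₀ z, mem_preimage_of_mem p s V₁ hsV₁ z⟩, mem_preimage_of_mem p s V₂ hsV₂ z⟩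
  obtain ⟨W₁, hzW₁, hW₁, c', hc'⟩ := exists_common_sections_le (p.fiberι s z)
    (N₀ ⊓ p ⁻¹ᵁ V₁ ⊓ p ⁻¹ᵁ V₂) hzN r (c z)
  obtain ⟨W₂, hzW₂, hW₂, d', hd'⟩ := exists_common_sections_le (p.fiberι s z) W₁ hzW₁ t d
  have hW₂N : W₂ ≤ N₀ := hW₂.trans (hW₁.trans (inf_le_left.trans inf_le_left))
  have hW₂V₁ : W₂ ≤ p ⁻¹ᵁ V₁ := hW₂.trans (hW₁.trans (inf_le_left.trans inf_le_right))
  have hW₂V₂ : W₂ ≤ p ⁻¹ᵁ V₂ := hW₂.trans (hW₁.trans inf_le_right)
  -- the two sections over `W₂`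
  let L : Γ(X, W₂) := X.presheaf.map (homOfLE hW₂N).op b
  let R : Γ(X, W₂) :=
    ∑ i, X.presheaf.map (homOfLE hW₂V₁).op (p.app V₁ (ε' i)) * X.presheaf.map (homOfLE hW₂).op (c' i) +
      ∑ j, d' j * X.presheaf.map (homOfLE hW₂V₂).op (p.app V₂ (η' j))
  -- germs of `L` and `R` at any point of the fibre in `W₂`
  have hgermL : ∀ (z' : ↥(p.fiber s)) (hz' : p.fiberι s z' ∈ W₂),
      X.presheaf.germ W₂ _ hz' L = X.presheaf.germ N₀ _ (hN₀ z') b := fun z' hz' =>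
    X.presheaf.germ_res_apply (homOfLE hW₂N) _ hz' b
  have hgermR : ∀ (z' : ↥(p.fiber s)) (hz' : p.fiberι s z' ∈ W₂),
      X.presheaf.germ W₂ _ hz' R =
        ∑ i, (ψ p s z').hom (ε i) * X.presheaf.germ W₁ _ (hW₂ hz') (c' i) +
          ∑ j, X.presheaf.germ W₂ _ hz' (d' j) * (ψ p s z').hom (η j) := by
    intro z' hz'
    simp only [R, map_add, map_sum, map_mul]
    congr 1
    · refine Finset.sum_congr rfl fun i _ => ?_
      rw [← hε' i, ψ_germ p s V₁ hsV₁ (ε' i) z']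
      congr 1
      · exact X.presheaf.germ_res_apply (homOfLE hW₂V₁) _ hz' _
      · exact X.presheaf.germ_res_apply (homOfLE hW₂) _ hz' _
    · refine Finset.sum_congr rfl fun j _ => ?_
      rw [← hη' j, ψ_germ p s V₂ hsV₂ (η' j) z']
      congr 1
      exact X.presheaf.germ_res_apply (homOfLE hW₂V₂) _ hz' _
  -- equality of germs at `z`
  have hLR : X.presheaf.germ W₂ _ hzW₂ L = X.presheaf.germ W₂ _ hzW₂ R := by
    rw [hgermL z hzW₂, hgermR z hzW₂]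
    have h1 : ∀ i, X.presheaf.germ W₁ _ (hW₂ hzW₂) (c' i) = c z i := fun i => hc' i
    have h2 : ∀ j, X.presheaf.germ W₂ _ hzW₂ (d' j) = d j := fun j => hd' j
    simp only [h1, h2]
    rw [← hD]; ring
  obtain ⟨W, hzW, iU, iV, hres⟩ := X.presheaf.germ_eq _ hzW₂ hzW₂ L R hLR
  refine ⟨W, hzW, X.presheaf.map (homOfLE (iU.le.trans hW₂)).op (c' i₀), ?_⟩
  intro z' hz'
  have hz'W₂ : p.fiberι s z' ∈ W₂ := iU.le hz'
  -- germs at `z'`
  have e1 : X.presheaf.germ W₂ _ hz'W₂ L = X.presheaf.germ W₂ _ hz'W₂ R := by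
    rw [← X.presheaf.germ_res_apply iU _ hz' L, ← X.presheaf.germ_res_apply iV _ hz' R, hres]
  rw [hgermL z' hz'W₂, hgermR z' hz'W₂] at e1
  have hgc : X.presheaf.germ W _ hz' (X.presheaf.map (homOfLE (iU.le.trans hW₂)).op (c' i₀)) =
      X.presheaf.germ W₁ _ (hW₂ hz'W₂) (c' i₀) :=
    X.presheaf.germ_res_apply (homOfLE (iU.le.trans hW₂)) _ hz' _
  rw [hgc]
  refine coeff_congr p s J ε hind z' (fun i => X.presheaf.germ W₁ _ (hW₂ hz'W₂) (c' i)) (c z') ?_ i₀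
  have h3 : ∑ i, (ψ p s z').hom (ε i) * (X.presheaf.germ W₁ _ (hW₂ hz'W₂) (c' i) - c z' i) =
      (X.presheaf.germ N₀ _ (hN₀ z') b - ∑ i, (ψ p s z').hom (ε i) * c z' i) -
        ∑ j, X.presheaf.germ W₂ _ hz'W₂ (d' j) * (ψ p s z').hom (η j) := by
    rw [e1]
    simp only [mul_sub, Finset.sum_sub_distrib]
    ring
  rw [h3]
  refine Ideal.sub_mem _ (hc z') ?_
  exact Ideal.sum_mem _ fun j _ => Ideal.mul_mem_left _ _ (Ideal.mem_map_of_mem _ (hηJ j))

end Groth.Agent.Lib.Helper24.Rigid
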