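import Mathlib
import Groth.Agent.Lib.Helper24.Rigid.LocRep

/-!
# Rigidity lemma: a function vanishing on a section vanishes to all orders along the fibre
-/

set_option autoImplicit false
universe u

open AlgebraicGeometry CategoryTheory Limits TopologicalSpace IsLocalRing Opposite

namespace Groth.Agent.Lib.Helper24.Rigid

variable {X S : Scheme.{u}} (p : X ⟶ S) (s : S)

theorem germ_mem_pow [Flat p] [IsNoetherianRing (S.presheaf.stalk s)]
    (h0 : Function.Surjective (p.fiberToSpecResidueField s).appTop.hom)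
    (z₀ : ↥(p.fiber s)) (ρ : X.presheaf.stalk (p.fiberι s z₀) →+* S.presheaf.stalk s)
    (hρ : ∀ a, ρ ((ψ p s z₀).hom a) = a)
    (N₀ : X.Opens) (hN₀ : ∀ z : ↥(p.fiber s), p.fiberι s z ∈ N₀) (b : Γ(X, N₀))
    (hb : ρ (X.presheaf.germ N₀ _ (hN₀ z₀) b) = 0) :
    ∀ (n : ℕ) (z : ↥(p.fiber s)),
      X.presheaf.germ N₀ _ (hN₀ z) b ∈
        Ideal.map (ψ p s z).hom (maximalIdeal (S.presheaf.stalk s) ^ n) := by
  intro n
  induction n with
  | zero =>
    intro z
    rw [pow_zero, Ideal.one_eq_top, Ideal.map_top]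
    trivial
  | succ n ih =>
    set m := maximalIdeal (S.presheaf.stalk s) with hm
    obtain ⟨r, ε, hεI, hspan, hind⟩ := exists_indep_gens (S.presheaf.stalk s) (m ^ n)
    set J := m * m ^ n with hJ
    -- decompose
    have hdec : ∀ z : ↥(p.fiber s), ∃ c : Fin r → X.presheaf.stalk (p.fiberι s z),
        X.presheaf.germ N₀ _ (hN₀ z) b - ∑ i, (ψ p s z).hom (ε i) * c i ∈
          Ideal.map (ψ p s z).hom J := by
      intro z
      have h1 := Ideal.map_mono (f := (ψ p s z).hom) hspan (ih z)
      rw [Ideal.map_sup, Ideal.map_span, ← Set.range_comp] at h1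
      obtain ⟨u, hu, v, hv, huv⟩ := Submodule.mem_sup.mp h1
      obtain ⟨c, hc⟩ := Ideal.mem_span_range_iff_exists_fun.mp hu
      refine ⟨c, ?_⟩
      have : X.presheaf.germ N₀ _ (hN₀ z) b - ∑ i, (ψ p s z).hom (ε i) * c i = v := by
        rw [← huv, ← hc]
        simp [mul_comm]
      rw [this]
      exact hv
    choose c hc using hdec
    -- the coefficients lie in the ideal of the fibre
    have hρJ : ∀ v ∈ Ideal.map (ψ p s z₀).hom J, ρ v ∈ J := by
      intro v hv
      have h2 := Ideal.mem_map_of_mem ρ hv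
      rw [Ideal.map_map] at h2
      have h3 : ρ.comp (ψ p s z₀).hom = RingHom.id _ := RingHom.ext hρ
      rwa [h3, Ideal.map_id] at h2
    have hcm : ∀ (i : Fin r) (z : ↥(p.fiber s)), c z i ∈ Ideal.map (ψ p s z).hom m := by
      intro i
      have hloc := locRep_of_decomposition p s J ε hind N₀ hN₀ b c hc i
      rcases dichotomy p s h0 (fun z => c z i) hloc with h | h
      · exact h
      · exfalso
        have hu : IsUnit (ρ (c z₀ i)) := (h z₀).map ρ
        have hmem : ρ (c z₀ i) ∈ m := by
          refine hind (fun i => ρ (c z₀ i)) ?_ i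
          have h4 := hρJ _ (hc z₀)
          rw [map_sub, hb, zero_sub, map_sum] at h4
          simp only [map_mul, hρ] at h4
          have h5 : ∑ i, ρ (c z₀ i) * ε i = ∑ i, ε i * ρ (c z₀ i) :=
            Finset.sum_congr rfl fun i _ => mul_comm _ _
          rw [h5]
          simpa using J.neg_mem h4
        exact (IsLocalRing.mem_maximalIdeal _).mp hmem hu
    intro z
    have h6 : X.presheaf.germ N₀ _ (hN₀ z) b =
        ∑ i, (ψ p s z).hom (ε i) * c z i +
          (X.presheaf.germ N₀ _ (hN₀ z) b - ∑ i, (ψ p s z).hom (ε i) * c z i) := by ring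
    rw [h6]
    refine Ideal.add_mem _ (Ideal.sum_mem _ fun i _ => ?_) ?_
    · rw [pow_succ, Ideal.map_mul]
      exact Ideal.mul_mem_mul (Ideal.mem_map_of_mem _ (hεI i)) (hcm i z)
    · rw [pow_succ']
      exact hc z

end Groth.Agent.Lib.Helper24.Rigid
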