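import Mathlib
import Groth.Agent.Lib.Helper24.Rigid.Induction

/-!
# Rigidity lemma: a function vanishing on a section vanishes near the fibre
-/

set_option autoImplicit false
universe u

open AlgebraicGeometry CategoryTheory Limits TopologicalSpace IsLocalRing Opposite

namespace Groth.Agent.Lib.Helper24.Rigid

variable {X S : Scheme.{u}} (p : X ⟶ S) (s : S)

lemma map_ψ_le_maximalIdeal (z : ↥(p.fiber s)) :
    Ideal.map (ψ p s z).hom (maximalIdeal (S.presheaf.stalk s)) ≤
      maximalIdeal (X.presheaf.stalk (p.fiberι s z)) := by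
  rw [← ker_stalkMap_fiberι]
  exact IsLocalRing.le_maximalIdeal (RingHom.ker_ne_top _)

/-- Let `p : X ⟶ S` be flat with a section `e`, `X` and `S` locally Noetherian, and suppose all
global functions on the fibre over `s` are constants. If `b` is a function on a neighbourhood of
the fibre over `s` with `e^* b = 0`, then `b` vanishes at (the local rings of) all points of the
fibre. -/
theorem germ_eq_zero [Flat p] [IsLocallyNoetherian S] [IsLocallyNoetherian X]
    (h0 : Function.Surjective (p.fiberToSpecResidueField s).appTop.hom)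
    (e : S ⟶ X) (he : e ≫ p = 𝟙 S)
    (N₀ : X.Opens) (hN₀ : ∀ z : ↥(p.fiber s), p.fiberι s z ∈ N₀) (b : Γ(X, N₀))
    (hb : e.app N₀ b = 0) (z : ↥(p.fiber s)) :
    X.presheaf.germ N₀ _ (hN₀ z) b = 0 := by
  have hpe : p (e s) = s := by
    rw [← Scheme.Hom.comp_apply, he]; rfl
  obtain ⟨z₀, hz₀⟩ := exists_fiberι_eq p s (e s) hpe
  let ρ : X.presheaf.stalk (p.fiberι s z₀) →+* S.presheaf.stalk s :=
    (e.stalkMap s).hom.comp (X.presheaf.stalkSpecializes (specializes_of_eq hz₀.symm)).hom
  have hρgerm : ∀ (W : X.Opens) (hW : p.fiberι s z₀ ∈ W) (σ : Γ(X, W)),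
      ρ (X.presheaf.germ W _ hW σ) =
        S.presheaf.germ (e ⁻¹ᵁ W) s (by change e s ∈ W; rw [← hz₀]; exact hW) (e.app W σ) := by
    intro W hW σ
    simp only [ρ, RingHom.comp_apply]
    have h1 := TopCat.Presheaf.germ_stalkSpecializes_apply X.presheaf hW
      (specializes_of_eq hz₀.symm) σ
    erw [h1]
    exact Scheme.Hom.germ_stalkMap_apply e W s _ σ
  have hρ : ∀ a, ρ ((ψ p s z₀).hom a) = a := by
    intro a
    obtain ⟨V, hsV, a', rfl⟩ := S.presheaf.exists_germ_eq a
    rw [ψ_germ p s V hsV a' z₀, hρgerm]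
    have h2 : e.app (p ⁻¹ᵁ V) (p.app V a') = (e ≫ p).app V a' := rfl
    rw [h2, Scheme.Hom.congr_app he V]
    simp only [Scheme.Hom.id_app, CommRingCat.comp_apply, CommRingCat.id_apply]
    exact S.presheaf.germ_res_apply' _ s _ a'
  have hb' : ρ (X.presheaf.germ N₀ _ (hN₀ z₀) b) = 0 := by
    rw [hρgerm, hb, map_zero]
  have key := germ_mem_pow p s h0 z₀ ρ hρ N₀ hN₀ b hb'
  have hkrull := Ideal.iInf_pow_eq_bot_of_isLocalRing
    (maximalIdeal (X.presheaf.stalk (p.fiberι s z))) Ideal.IsPrime.ne_top'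
  have : X.presheaf.germ N₀ _ (hN₀ z) b ∈
      ⨅ n, maximalIdeal (X.presheaf.stalk (p.fiberι s z)) ^ n := by
    rw [Ideal.mem_iInf]
    intro n
    have h3 := key n z
    rw [Ideal.map_pow] at h3
    exact Ideal.pow_right_mono (map_ψ_le_maximalIdeal p s z) n h3
  rw [hkrull] at this
  exact this

end Groth.Agent.Lib.Helper24.Rigid
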