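import Mathlib
import Groth.Agent.Lib.Helper24.Rigid.Vanish
import Groth.Agent.Lib.Helper24.Rigid.LocalEq
import Groth.Agent.Lib.Helper4.AntiAffRigid

/-!
# The rigidity lemma for a flat family with a section
-/

set_option autoImplicit false
universe u

open AlgebraicGeometry CategoryTheory Limits TopologicalSpace IsLocalRing Opposite

namespace Groth.Agent.Lib.Helper24.Rigid

variable {X S Y T : Scheme.{u}}

/-- Local form: if `f` collapses the fibre over `s`, then `f = p ≫ e ≫ f` near every point of that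
fibre. -/
theorem local_eq_of_collapse [IsLocallyNoetherian S] [IsLocallyNoetherian X]
    (p : X ⟶ S) [Flat p] (e : S ⟶ X) (he : e ≫ p = 𝟙 S) (s : S)
    (h0 : Function.Surjective (p.fiberToSpecResidueField s).appTop.hom)
    (f : X ⟶ Y) (hs : ∀ x x' : X, p x = s → p x' = s → f x = f x')
    (x : X) (hx : p x = s) :
    ∃ N : X.Opens, x ∈ N ∧ N.ι ≫ f = N.ι ≫ (p ≫ e ≫ f) := by
  set g : X ⟶ Y := p ≫ e ≫ f with hg
  have hpe : ∀ s' : S, p (e s') = s' := fun s' => by
    rw [← Scheme.Hom.comp_apply, he]; rfl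
  have hefg : e ≫ f = e ≫ g := by
    rw [hg, ← Category.assoc e, he, Category.id_comp]
  have hgx : ∀ x' : X, g x' = f (e (p x')) := fun x' => by
    rw [hg, Scheme.Hom.comp_apply, Scheme.Hom.comp_apply]
  let y := f (e s)
  have hfy : ∀ x' : X, p x' = s → f x' = y := fun x' hx' => hs x' (e s) hx' (hpe s)
  have hgy : ∀ x' : X, p x' = s → g x' = y := fun x' hx' => by rw [hgx, hx']
  obtain ⟨_, ⟨U, hU, rfl⟩, hyU, -⟩ :=
    Y.isBasis_affineOpens.exists_subset_of_mem_open (Set.mem_univ y) isOpen_univ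
  let N₀ : X.Opens := f ⁻¹ᵁ U ⊓ g ⁻¹ᵁ U
  have hN₀ : ∀ z : ↥(p.fiber s), p.fiberι s z ∈ N₀ := fun z =>
    ⟨by change f _ ∈ U; rw [hfy _ (p_fiberι p s z)]; exact hyU,
     by change g _ ∈ U; rw [hgy _ (p_fiberι p s z)]; exact hyU⟩
  obtain ⟨z, rfl⟩ := exists_fiberι_eq p s x hx
  have hfz : f (p.fiberι s z) ∈ U := (hN₀ z).1
  have hgz : g (p.fiberι s z) ∈ U := (hN₀ z).2
  refine exists_nhd_eq_of_germ_eq f g U hU (p.fiberι s z) hfz hgz ?_
  intro r
  let b : Γ(X, N₀) := X.presheaf.map (homOfLE inf_le_left).op (f.app U r) -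
    X.presheaf.map (homOfLE inf_le_right).op (g.app U r)
  have hb : e.app N₀ b = 0 := by
    simp only [b, map_sub]
    rw [sub_eq_zero]
    have h1 : e.app N₀ (X.presheaf.map (homOfLE (inf_le_left : N₀ ≤ f ⁻¹ᵁ U)).op (f.app U r)) =
        S.presheaf.map (homOfLE (show e ⁻¹ᵁ N₀ ≤ e ⁻¹ᵁ (f ⁻¹ᵁ U) from
          fun _ h => h.1)).op ((e ≫ f).app U r) := by
      have := e.naturality (homOfLE (inf_le_left : N₀ ≤ f ⁻¹ᵁ U)).op
      exact congr($this (f.app U r))
    have h2 : e.app N₀ (X.presheaf.map (homOfLE (inf_le_right : N₀ ≤ g ⁻¹ᵁ U)).op (g.app U r)) =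
        S.presheaf.map (homOfLE (show e ⁻¹ᵁ N₀ ≤ e ⁻¹ᵁ (g ⁻¹ᵁ U) from
          fun _ h => h.2)).op ((e ≫ g).app U r) := by
      have := e.naturality (homOfLE (inf_le_right : N₀ ≤ g ⁻¹ᵁ U)).op
      exact congr($this (g.app U r))
    rw [h1, h2]
    have h3 : (e ≫ f).app U ≫ S.presheaf.map (homOfLE (show e ⁻¹ᵁ N₀ ≤ e ⁻¹ᵁ (f ⁻¹ᵁ U) from
          fun _ h => h.1)).op = (e ≫ g).app U ≫ S.presheaf.map (homOfLE
          (show e ⁻¹ᵁ N₀ ≤ e ⁻¹ᵁ (g ⁻¹ᵁ U) from fun _ h => h.2)).op := by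
      rw [Scheme.Hom.congr_app hefg U, Category.assoc]
      refine congrArg (Scheme.Hom.app (e ≫ g) U ≫ ·) ?_
      exact (S.presheaf.map_comp _ _).symm.trans (congrArg S.presheaf.map (Subsingleton.elim _ _))
    exact congr($h3 r)
  have key := germ_eq_zero p s h0 e he N₀ hN₀ b hb z
  simp only [b, map_sub] at key
  rw [sub_eq_zero] at key
  have k1 := X.presheaf.germ_res_apply (homOfLE (inf_le_left : N₀ ≤ f ⁻¹ᵁ U)) _ (hN₀ z) (f.app U r)
  have k2 := X.presheaf.germ_res_apply (homOfLE (inf_le_right : N₀ ≤ g ⁻¹ᵁ U)) _ (hN₀ z) (g.app U r)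
  exact k1.symm.trans (key.trans k2)

/-- **Rigidity lemma, section form.** `p : X ⟶ S` flat and closed with a section `e`, `S`
connected, `κ(s) → Γ(X_s)` surjective for all `s`; `f : X ⟶ Y` with `Y` separated over some `T`
compatible with a map `S ⟶ T`. If `f` collapses one fibre then `f = p ≫ e ≫ f`. -/
theorem rigidity_section_cc [IsLocallyNoetherian S] [IsLocallyNoetherian X]
    (p : X ⟶ S) [Flat p] (hcl : IsClosedMap p) (e : S ⟶ X) (he : e ≫ p = 𝟙 S)
    (h0 : ∀ s : S, Function.Surjective (p.fiberToSpecResidueField s).appTop.hom)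
    (f : X ⟶ Y) (q : Y ⟶ T) [IsSeparated q] (a : S ⟶ T) (hfa : f ≫ q = p ≫ a)
    (hs : ∀ s : S, ∃ s₀ : S, s ∈ connectedComponent s₀ ∧
      ∀ x x' : X, p x = s₀ → p x' = s₀ → f x = f x') :
    f = p ≫ e ≫ f := by
  set g : X ⟶ Y := p ≫ e ≫ f with hg
  have hpe : ∀ s' : S, p (e s') = s' := fun s' => by
    rw [← Scheme.Hom.comp_apply, he]; rfl
  have hgx : ∀ x' : X, g x' = f (e (p x')) := fun x' => by
    rw [hg, Scheme.Hom.comp_apply, Scheme.Hom.comp_apply]
  have hfg : f ≫ q = g ≫ q := by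
    rw [hg, Category.assoc, Category.assoc, hfa, ← Category.assoc e, he, Category.id_comp]
  let Good : Set X := {x | ∃ N : X.Opens, x ∈ N ∧ N.ι ≫ f = N.ι ≫ g}
  have hGood : IsOpen Good := by
    rw [isOpen_iff_forall_mem_open]
    rintro x ⟨N, hxN, hN⟩
    exact ⟨N, fun y hy => ⟨N, hy, hN⟩, N.isOpen, hxN⟩
  let D : Set S := {s | ∀ x : X, p x = s → x ∈ Good}
  have hDc : Dᶜ = p '' Goodᶜ := by
    ext s
    simp only [D, Set.mem_compl_iff, Set.mem_setOf_eq, Set.mem_image, not_forall]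
    constructor
    · rintro ⟨x, hx, hxG⟩
      exact ⟨x, hxG, hx⟩
    · rintro ⟨x, hxG, hx⟩
      exact ⟨x, hx, hxG⟩
  have hDo : IsOpen D := by
    rw [← isClosed_compl_iff, hDc]
    exact hcl _ hGood.isClosed_compl
  have hDof : ∀ s : S, (∀ x x' : X, p x = s → p x' = s → f x = f x') → s ∈ D := by
    intro s hs' x hx
    exact local_eq_of_collapse p e he s (h0 s) f hs' x hx
  have hDs : StableUnderSpecialization D := by
    intro s s' hss' hsD
    apply hDof
    have key : ∀ x' : X, p x' = s' → f x' = f (e s') := by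
      intro x' hx'
      obtain ⟨x, hxx', hx⟩ := Flat.generalizingMap p (show s ⤳ p x' from hx' ▸ hss')
      obtain ⟨N, hxN, hN⟩ := hsD x hx
      have := Groth.Agent.Lib.Helper4.AntiAffRigid.apply_eq_of_specializes q f g hfg hxx' N hxN hN
      rw [this, hgx, hx']
    intro x x' hx hx'
    rw [key x hx, key x' hx']
  have hDcl : IsClosed D :=
    Groth.Agent.Lib.Helper4.AntiAffRigid.isClosed_of_isOpen_of_stableUnderSpecialization D hDo hDs
  refine Scheme.hom_ext_of_forall f g fun x => ?_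
  obtain ⟨s₀, hmem, hcol⟩ := hs (p x)
  have : p x ∈ D :=
    (IsClopen.connectedComponent_subset ⟨hDcl, hDo⟩ (hDof s₀ hcol)) hmem
  exact this x rfl

/-- **Rigidity lemma, section form**, connected base. -/
theorem rigidity_section [IsLocallyNoetherian S] [IsLocallyNoetherian X]
    (p : X ⟶ S) [Flat p] (hcl : IsClosedMap p) (e : S ⟶ X) (he : e ≫ p = 𝟙 S)
    [PreconnectedSpace S]
    (h0 : ∀ s : S, Function.Surjective (p.fiberToSpecResidueField s).appTop.hom)
    (f : X ⟶ Y) (q : Y ⟶ T) [IsSeparated q] (a : S ⟶ T) (hfa : f ≫ q = p ≫ a)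
    (s₀ : S) (hs : ∀ x x' : X, p x = s₀ → p x' = s₀ → f x = f x') :
    f = p ≫ e ≫ f :=
  rigidity_section_cc p hcl e he h0 f q a hfa fun s =>
    ⟨s₀, by rw [PreconnectedSpace.connectedComponent_eq_univ]; trivial, hs⟩

end Groth.Agent.Lib.Helper24.Rigid
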