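import Mathlib
import Groth.Agent.Lib.Helper24.Rigid.Main
import Groth.Agent.Lib.Helper4.ConnIdem

/-!
# The rigidity lemma for a proper flat family
-/

set_option autoImplicit false
universe u

open AlgebraicGeometry CategoryTheory Limits TopologicalSpace IsLocalRing Opposite

namespace Groth.Agent.Lib.Helper24.Rigid

/-- Flat base change for global sections, in the form: if `Γ(S) ⟶ Γ(X)` is an isomorphism
(`X` qcqs, `S`, `T` affine, `T ⟶ S` flat) then so is `Γ(T) ⟶ Γ(X ×_S T)`. -/
theorem isIso_appTop_of_isPullback {X Y S T : Scheme.{u}} {f : T ⟶ S} {g : Y ⟶ X} {iX : X ⟶ S}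
    {iY : Y ⟶ T} (H : IsPullback g iY iX f) [Flat f] [IsAffine S] [IsAffine T] [CompactSpace X]
    [QuasiSeparatedSpace X] (hX : IsIso iX.appTop) : IsIso iY.appTop := by
  have hiso : IsIso (pushoutSection H (US := ⊤) (UT := ⊤) (UX := ⊤) (UY := ⊤)
      (by simp) (by simp) (by simp)) :=
    isIso_pushoutSection_of_isQuasiSeparated_of_flat_right H _ _ _ (isAffineOpen_top _)
      (isAffineOpen_top _) CompactSpace.isCompact_univ
      (isQuasiSeparated_univ_iff.mpr inferInstance)
  have hpo := (isIso_pushoutSection_iff H _ _ _).mp hiso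
  have e1 : iX.appLE ⊤ ⊤ (by simp) = iX.appTop := Scheme.Hom.appLE_eq_app iX
  have e2 : iY.appLE ⊤ ⊤ (by simp) = iY.appTop := Scheme.Hom.appLE_eq_app _
  have h1 : IsIso (iX.appLE ⊤ ⊤ (by simp)) := by rw [e1]; exact hX
  have h2 := hpo.isIso_inr_of_isIso h1
  rw [e2] at h2
  exact h2

variable {X S Y : Scheme.{u}}

/-- A scheme whose ring of global functions is the bijective image of `Γ(Spec κ)` for a field `κ`
is connected. -/
theorem connectedSpace_of_bijective {F : Scheme.{u}} (κ : CommRingCat.{u}) [IsDomain κ]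
    (t : F ⟶ Spec κ) (h0 : Function.Bijective t.appTop.hom) :
    ConnectedSpace F := by
  let ψ := (Scheme.ΓSpecIso κ).commRingCatIsoToRingEquiv
  have hpre : PreconnectedSpace F := by
    apply Groth.Agent.Lib.Helper4.ConnIdem.preconnectedSpace_of_noIdem
    intro e he
    obtain ⟨a, rfl⟩ := h0.2 e
    have ha : a * a = a := h0.1 (by rw [map_mul, he])
    have hψ : ψ a * ψ a = ψ a := by rw [← map_mul, ha]
    have h2 : ψ a * (ψ a - 1) = 0 := by rw [mul_sub, hψ, mul_one, sub_self]
    rcases mul_eq_zero.mp h2 with h | h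
    · left
      have : a = 0 := ψ.injective (by rw [h, map_zero])
      rw [this, map_zero]
    · right
      have : a = 1 := ψ.injective (by rw [sub_eq_zero.mp h, map_one])
      rw [this, map_one]
  have hne : Nonempty F := by
    by_contra hemp
    rw [not_nonempty_iff] at hemp
    have hsub : Subsingleton Γ(F, ⊤) := by
      have : (⊤ : F.Opens) = ⊥ := by
        ext x
        exact hemp.elim x
      rw [this]
      infer_instance
    have : (1 : Γ(Spec κ, ⊤)) = 0 := h0.1 (Subsingleton.elim _ _)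
    have : ψ 1 = ψ 0 := by rw [this]
    rw [map_one, map_zero] at this
    exact one_ne_zero this
  exact { toPreconnectedSpace := hpre, toNonempty := hne }

/-- Base change of the hypothesis `κ(s) ≅ Γ(X_s)` along any `g : Y ⟶ S`. -/
theorem bijective_appTop_fiber_of_isPullback {P Y' : Scheme.{u}} {fst : P ⟶ X} {snd : P ⟶ Y'}
    {p : X ⟶ S} {g : Y' ⟶ S} (H₀ : IsPullback fst snd p g) [IsProper p]
    (h0 : ∀ s : S, Function.Bijective (p.fiberToSpecResidueField s).appTop.hom) (y : Y') :
    Function.Bijective (snd.fiberToSpecResidueField y).appTop.hom := by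
  have H := isPullback_fiberToSpecResidueField_of_isPullback H₀ y
  haveI : Flat (Spec.map (g.residueFieldMap y)) := by
    rw [HasRingHomProperty.Spec_iff (P := @Flat)]
    letI := (g.residueFieldMap y).hom.toAlgebra
    exact (inferInstance : Module.Flat (S.residueField (g y)) (Y'.residueField y))
  haveI : QuasiSeparated (p.fiberToSpecResidueField (g y)) :=
    (inferInstance : QuasiSeparated (pullback.snd p (S.fromSpecResidueField (g y))))
  haveI : QuasiSeparatedSpace (p.fiber (g y)) :=
    quasiSeparatedSpace_of_quasiSeparated (p.fiberToSpecResidueField (g y))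
  have hiso : IsIso (p.fiberToSpecResidueField (g y)).appTop :=
    (ConcreteCategory.isIso_iff_bijective _).mpr (h0 (g y))
  have := isIso_appTop_of_isPullback H hiso
  exact (ConcreteCategory.isIso_iff_bijective _).mp this

/-- Base change of the hypothesis `κ(s) ≅ Γ(X_s)` along `X ⟶ S` itself. -/
theorem surjective_appTop_fiber_snd (p : X ⟶ S) [IsProper p]
    (h0 : ∀ s : S, Function.Bijective (p.fiberToSpecResidueField s).appTop.hom) (x : X) :
    Function.Surjective ((pullback.snd p p).fiberToSpecResidueField x).appTop.hom :=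
  (bijective_appTop_fiber_of_isPullback (IsPullback.of_hasPullback p p) h0 x).2

/-- **Rigidity lemma, proper form**, with a flexible target base `T` and a possibly
disconnected base. -/
theorem rigidity_proper_cc {T : Scheme.{u}} [IsLocallyNoetherian S] [IsLocallyNoetherian X]
    (p : X ⟶ S) [Flat p] [IsProper p]
    (h0 : ∀ s : S, Function.Bijective (p.fiberToSpecResidueField s).appTop.hom)
    (f : X ⟶ Y) (q : Y ⟶ T) [IsSeparated q] (a : S ⟶ T) (hf : f ≫ q = p ≫ a)
    (hs : ∀ s : S, ∃ s₀ : S, s ∈ connectedComponent s₀ ∧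
      ∀ x x' : X, p x = s₀ → p x' = s₀ → f x = f x') :
    ∃ t : S ⟶ Y, t ≫ q = a ∧ f = p ≫ t := by
  have hfib : ∀ s, ConnectedSpace (p.fiber s) := fun s =>
    connectedSpace_of_bijective _ (p.fiberToSpecResidueField s) (h0 s)
  have hsurj : Function.Surjective p := fun s => by
    obtain ⟨z⟩ := (hfib s).toNonempty
    exact ⟨p.fiberι s z, p_fiberι p s z⟩
  haveI : Surjective p := ⟨hsurj⟩
  let p' : pullback p p ⟶ X := pullback.snd p p
  let e' : X ⟶ pullback p p := pullback.lift (𝟙 X) (𝟙 X) rfl
  have he' : e' ≫ p' = 𝟙 X := pullback.lift_snd _ _ _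
  let f' : pullback p p ⟶ Y := pullback.fst p p ≫ f
  haveI : IsLocallyNoetherian (pullback p p) := LocallyOfFiniteType.isLocallyNoetherian p'
  have h0' : ∀ x : X, Function.Surjective (p'.fiberToSpecResidueField x).appTop.hom :=
    surjective_appTop_fiber_snd p h0
  have hfa : f' ≫ q = p' ≫ (p ≫ a) := by
    simp only [f', p', Category.assoc, hf]
    rw [← Category.assoc, pullback.condition, Category.assoc]
  have hpp : ∀ z : ↥(pullback p p), p (pullback.fst p p z) = p (p' z) := fun z => by
    rw [← Scheme.Hom.comp_apply, ← Scheme.Hom.comp_apply, pullback.condition]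
  have hq : Topology.IsQuotientMap p := (p.isClosedMap).isQuotientMap p.continuous hsurj
  have hfibres : ∀ s : S, _root_.IsConnected (p ⁻¹' {s}) := fun s => by
    rw [← p.range_fiberι s, ← Set.image_univ]
    exact isConnected_univ.image _ (p.fiberι s).continuous.continuousOn
  have hcol : ∀ x : X, ∃ x₀ : X, x ∈ connectedComponent x₀ ∧
      ∀ z z' : ↥(pullback p p), p' z = x₀ → p' z' = x₀ → f' z = f' z' := by
    intro x
    obtain ⟨s₀, hmem, hcol⟩ := hs (p x)
    obtain ⟨x₀, hx₀⟩ := hsurj s₀
    refine ⟨x₀, ?_, ?_⟩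
    · rw [← hq.isCoinducing.preimage_connectedComponent hfibres x₀, hx₀]
      exact hmem
    · intro z z' hz hz'
      simp only [f', Scheme.Hom.comp_apply]
      apply hcol
      · rw [hpp, hz, hx₀]
      · rw [hpp, hz', hx₀]
  have key := rigidity_section_cc p' p'.isClosedMap e' he' h0' f' q (p ≫ a) hfa hcol
  have hfs : pullback.fst p p ≫ f = pullback.snd p p ≫ f := by
    change f' = _
    rw [key]
    simp only [f', e', p', pullback.lift_fst_assoc, Category.id_comp]
  have hdesc : ∀ {Z : Scheme.{u}} (g₁ g₂ : Z ⟶ X), g₁ ≫ p = g₂ ≫ p → g₁ ≫ f = g₂ ≫ f := by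
    intro Z g₁ g₂ h
    have h1 : g₁ = pullback.lift g₁ g₂ h ≫ pullback.fst p p := (pullback.lift_fst _ _ _).symm
    have h2 : g₂ = pullback.lift g₁ g₂ h ≫ pullback.snd p p := (pullback.lift_snd _ _ _).symm
    rw [h1, Category.assoc, hfs, ← Category.assoc, ← h2]
  haveI : EffectiveEpi p := inferInstance
  let t := EffectiveEpi.desc p f hdesc
  have ht : p ≫ t = f := EffectiveEpi.fac p f hdesc
  refine ⟨t, ?_, ht.symm⟩
  rw [← cancel_epi p, ← Category.assoc, ht, hf]

/-- **Rigidity lemma, proper form**, with a flexible target base `T`. -/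
theorem rigidity_proper' {T : Scheme.{u}} [IsLocallyNoetherian S] [IsLocallyNoetherian X]
    (p : X ⟶ S) [Flat p] [IsProper p] [ConnectedSpace S]
    (h0 : ∀ s : S, Function.Bijective (p.fiberToSpecResidueField s).appTop.hom)
    (f : X ⟶ Y) (q : Y ⟶ T) [IsSeparated q] (a : S ⟶ T) (hf : f ≫ q = p ≫ a)
    (s₀ : S) (hs : ∀ x x' : X, p x = s₀ → p x' = s₀ → f x = f x') :
    ∃ t : S ⟶ Y, t ≫ q = a ∧ f = p ≫ t :=
  rigidity_proper_cc p h0 f q a hf fun s =>
    ⟨s₀, by rw [PreconnectedSpace.connectedComponent_eq_univ]; trivial, hs⟩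

/-- **Rigidity lemma, proper form.** -/
theorem rigidity_proper [IsLocallyNoetherian S] [IsLocallyNoetherian X]
    (p : X ⟶ S) [Flat p] [IsProper p] [ConnectedSpace S]
    (h0 : ∀ s : S, Function.Bijective (p.fiberToSpecResidueField s).appTop.hom)
    (f : X ⟶ Y) (q : Y ⟶ S) [IsSeparated q] (hf : f ≫ q = p)
    (s₀ : S) (hs : ∀ x x' : X, p x = s₀ → p x' = s₀ → f x = f x') :
    ∃ t : S ⟶ Y, t ≫ q = 𝟙 S ∧ f = p ≫ t :=
  rigidity_proper' p h0 f q (𝟙 S) (by rw [hf, Category.comp_id]) s₀ hs

end Groth.Agent.Lib.Helper24.Rigid
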