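import Mathlib
import Groth.Agent.Lib.Helper24.Rigid.Proper

/-!
# Rigidity for morphisms to group schemes
-/

set_option autoImplicit false
universe u

open AlgebraicGeometry CategoryTheory Limits TopologicalSpace IsLocalRing Opposite
open MonoidalCategory CartesianMonoidalCategory MonObj GrpObj

namespace Groth.Agent.Lib.Helper24.Rigid

/-- Two morphisms `f, g : X ⟶ G` to a separated group scheme agreeing on one fibre of the proper
flat `X ⟶ S` (with `κ(s) ≅ Γ(X_s)`) differ by a section of `G`. -/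
theorem eq_section_mul (S : Scheme.{u}) [IsLocallyNoetherian S] [ConnectedSpace S]
    (X G : Over S) [GrpObj G] [IsSeparated G.hom] [IsProper X.hom] [Flat X.hom]
    (h0 : ∀ s : S, Function.Bijective (X.hom.fiberToSpecResidueField s).appTop.hom)
    (f g : X ⟶ G) (s : S)
    (hs : X.hom.fiberι s ≫ f.left = X.hom.fiberι s ≫ g.left) :
    ∃ t : 𝟙_ (Over S) ⟶ G, f = (toUnit X ≫ t) * g := by
  haveI : IsLocallyNoetherian X.left := LocallyOfFiniteType.isLocallyNoetherian X.hom
  let F : Over S := Over.mk (X.hom.fiberι s ≫ X.hom)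
  let j : F ⟶ X := Over.homMk (X.hom.fiberι s) rfl
  have hjfg : j ≫ f = j ≫ g := Over.OverMorphism.ext hs
  let h : X ⟶ G := f * g⁻¹
  have hjh : j ≫ h = 1 := by
    simp only [h]
    rw [MonObj.comp_mul, GrpObj.comp_inv, hjfg, mul_inv_cancel]
  have hjh' : X.hom.fiberι s ≫ h.left = F.hom ≫ η[G].left := by
    have := congrArg (fun φ => φ.left) hjh
    simp only [Hom.one_def, Over.comp_left, Over.toUnit_left] at this
    exact this
  have hcol : ∀ x x' : X.left, X.hom x = s → X.hom x' = s → h.left x = h.left x' := by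
    have key : ∀ x : X.left, X.hom x = s → h.left x = η[G].left s := by
      intro x hx
      obtain ⟨z, rfl⟩ := exists_fiberι_eq X.hom s x hx
      rw [← Scheme.Hom.comp_apply, hjh', Scheme.Hom.comp_apply]
      congr 1
    intro x x' hx hx'
    rw [key x hx, key x' hx']
  obtain ⟨t, ht, hht⟩ := rigidity_proper X.hom h0 h.left G.hom (Over.w h) s hcol
  let t' : 𝟙_ (Over S) ⟶ G := Over.homMk t ht
  refine ⟨t', ?_⟩
  have : h = toUnit X ≫ t' := by
    ext1
    rw [hht]
    simp [t']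
  rw [← this]
  simp only [h, inv_mul_cancel_right]

theorem exists_of_isPullback {P X Y Z : Scheme.{u}} {fst : P ⟶ X} {snd : P ⟶ Y} {f : X ⟶ Z}
    {g : Y ⟶ Z} (H : IsPullback fst snd f g) (x : X) (y : Y) (h : f x = g y) :
    ∃ z : P, fst z = x ∧ snd z = y := by
  obtain ⟨w, hw1, hw2⟩ := Scheme.Pullback.exists_preimage_pullback x y h
  refine ⟨H.isoPullback.inv w, ?_, ?_⟩
  · rw [← Scheme.Hom.comp_apply, H.isoPullback_inv_fst]; exact hw1
  · rw [← Scheme.Hom.comp_apply, H.isoPullback_inv_snd]; exact hw2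

/-- A morphism `φ' : X ×_S Y ⟶ G` to a separated group scheme which is trivial on `X ×_S e(S)`
factors through the second projection (`X ⟶ S` proper flat with `κ(s) ≅ Γ(X_s)`, every point of
`Y` lying in the connected component of a point of `e(S)`). -/
theorem exists_eq_snd_comp (S : Scheme.{u})
    (X Y G : Over S) [GrpObj G] [IsSeparated G.hom] [IsProper X.hom] [Flat X.hom]
    (h0 : ∀ s : S, Function.Bijective (X.hom.fiberToSpecResidueField s).appTop.hom)
    [IsLocallyNoetherian Y.left] (e : 𝟙_ (Over S) ⟶ Y)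
    (hconn : ∀ y : Y.left, y ∈ connectedComponent (e.left (Y.hom y)))
    (φ' : X ⊗ Y ⟶ G) (hσφ : lift (𝟙 X) (toUnit X ≫ e) ≫ φ' = 1) :
    ∃ h : Y ⟶ G, φ' = snd X Y ≫ h := by
  let σ₀ : X ⟶ X ⊗ Y := lift (𝟙 X) (toUnit X ≫ e)
  have hσ₁ : σ₀ ≫ fst X Y = 𝟙 X := lift_fst _ _
  let p : (X ⊗ Y).left ⟶ Y.left := (snd X Y).left
  have H₀ : IsPullback (fst X Y).left p X.hom Y.hom := IsPullback.of_hasPullback X.hom Y.hom
  haveI : IsProper p := (inferInstance : IsProper (pullback.snd X.hom Y.hom))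
  haveI : Flat p := (inferInstance : Flat (pullback.snd X.hom Y.hom))
  haveI : IsLocallyNoetherian (X ⊗ Y).left := LocallyOfFiniteType.isLocallyNoetherian p
  have h0' : ∀ y : Y.left, Function.Bijective (p.fiberToSpecResidueField y).appTop.hom :=
    bijective_appTop_fiber_of_isPullback H₀ h0
  have he : e.left ≫ Y.hom = 𝟙 S := Over.w e
  have hw : σ₀.left ≫ p = X.hom ≫ e.left := by
    have : σ₀ ≫ snd X Y = toUnit X ≫ e := lift_snd _ _
    have := congrArg (fun φ => φ.left) this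
    simp only [Over.comp_left, Over.toUnit_left] at this
    exact this
  have H₁ : IsPullback σ₀.left X.hom p e.left := by
    refine IsPullback.of_right ?_ hw H₀
    have h1 : σ₀.left ≫ (fst X Y).left = 𝟙 X.left := by
      have := congrArg (fun φ => φ.left) hσ₁
      simp only [Over.comp_left, Over.id_left] at this
      exact this
    rw [h1, he]
    exact IsPullback.of_horiz_isIso ⟨by simp⟩
  have hes : ∀ s : S, Y.hom (e.left s) = s := fun s => by
    rw [← Scheme.Hom.comp_apply, he]; rfl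
  have hcol : ∀ y : Y.left, ∃ y₀ : Y.left, y ∈ connectedComponent y₀ ∧
      ∀ z z' : (X ⊗ Y).left, p z = y₀ → p z' = y₀ → φ'.left z = φ'.left z' := by
    intro y
    refine ⟨e.left (Y.hom y), hconn y, ?_⟩
    have key : ∀ z : (X ⊗ Y).left, p z = e.left (Y.hom y) →
        φ'.left z = η[G].left (Y.hom y) := by
      intro z hz
      obtain ⟨x, hx, hx'⟩ := exists_of_isPullback H₁ z (Y.hom y) hz
      have h1 : σ₀.left ≫ φ'.left = X.hom ≫ η[G].left := by
        have := congrArg (fun φ => φ.left) hσφ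
        simp only [Hom.one_def, Over.comp_left, Over.toUnit_left] at this
        exact this
      rw [← hx, ← Scheme.Hom.comp_apply, h1, Scheme.Hom.comp_apply, hx']
    intro z z' hz hz'
    rw [key z hz, key z' hz']
  have hf : φ'.left ≫ G.hom = p ≫ Y.hom := (Over.w φ').trans (Over.w (snd X Y)).symm
  obtain ⟨t, ht, hht⟩ := rigidity_proper_cc p h0' φ'.left G.hom Y.hom hf hcol
  refine ⟨Over.homMk t ht, ?_⟩
  ext1
  rw [hht]
  simp [p]

/-- Every morphism `X ×_S Y ⟶ G` to a separated group scheme, with `X ⟶ S` proper flat with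
`κ(s) ≅ Γ(X_s)` and `Y` connected with a section, is a product `g(x) h(y)`. -/
theorem product_decomposition (S : Scheme.{u})
    (X Y G : Over S) [GrpObj G] [IsSeparated G.hom] [IsProper X.hom] [Flat X.hom]
    (h0 : ∀ s : S, Function.Bijective (X.hom.fiberToSpecResidueField s).appTop.hom)
    [IsLocallyNoetherian Y.left] [ConnectedSpace Y.left] (e : 𝟙_ (Over S) ⟶ Y)
    (f : X ⊗ Y ⟶ G) :
    ∃ (g : X ⟶ G) (h : Y ⟶ G), f = (fst X Y ≫ g) * (snd X Y ≫ h) := by
  let σ₀ : X ⟶ X ⊗ Y := lift (𝟙 X) (toUnit X ≫ e)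
  let g : X ⟶ G := σ₀ ≫ f
  let φ' : X ⊗ Y ⟶ G := (fst X Y ≫ g)⁻¹ * f
  have hσ₁ : σ₀ ≫ fst X Y = 𝟙 X := lift_fst _ _
  have hσφ : σ₀ ≫ φ' = 1 := by
    simp only [φ']
    rw [MonObj.comp_mul, GrpObj.comp_inv, ← Category.assoc, hσ₁, Category.id_comp]
    exact inv_mul_cancel g
  obtain ⟨h, hh⟩ := exists_eq_snd_comp S X Y G h0 e
    (fun y => by rw [PreconnectedSpace.connectedComponent_eq_univ]; trivial) φ' hσφ
  refine ⟨g, h, ?_⟩
  rw [← hh]
  simp only [φ', mul_inv_cancel_left]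

/-- A morphism of `S`-schemes from a proper flat group scheme with `κ(s) ≅ Γ(X_s)` to a separated
group scheme which preserves the unit sections is a homomorphism. -/
theorem isMonHom_of_one (S : Scheme.{u}) [IsLocallyNoetherian S]
    (X G : Over S) [GrpObj X] [GrpObj G] [IsSeparated G.hom] [IsProper X.hom] [Flat X.hom]
    (h0 : ∀ s : S, Function.Bijective (X.hom.fiberToSpecResidueField s).appTop.hom)
    (f : X ⟶ G) (hf : η[X] ≫ f = η[G]) : IsMonHom f := by
  haveI : IsLocallyNoetherian X.left := LocallyOfFiniteType.isLocallyNoetherian X.hom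
  have h1f : (1 : X ⟶ X) ≫ f = 1 := by
    rw [Hom.one_def, Category.assoc, hf, ← Hom.one_def]
  let σ₀ : X ⟶ X ⊗ X := lift (𝟙 X) (toUnit X ≫ η[X])
  let τ₀ : X ⟶ X ⊗ X := lift (toUnit X ≫ η[X]) (𝟙 X)
  let φ' : X ⊗ X ⟶ G := (fst X X ≫ f)⁻¹ * (μ[X] ≫ f) * (snd X X ≫ f)⁻¹
  have hσμ : σ₀ ≫ μ[X] = 𝟙 X := _root_.mul_one (𝟙 X)
  have hτμ : τ₀ ≫ μ[X] = 𝟙 X := _root_.one_mul (𝟙 X)
  have hσφ : σ₀ ≫ φ' = 1 := by
    simp only [φ']
    rw [MonObj.comp_mul, MonObj.comp_mul, GrpObj.comp_inv, GrpObj.comp_inv,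
      ← Category.assoc σ₀ (fst X X), ← Category.assoc σ₀ μ[X], ← Category.assoc σ₀ (snd X X),
      hσμ, Category.id_comp]
    have h1 : σ₀ ≫ fst X X = 𝟙 X := lift_fst _ _
    have h2 : σ₀ ≫ snd X X = 1 := lift_snd _ _
    rw [h1, h2, Category.id_comp, h1f]
    simp
  have hτφ : τ₀ ≫ φ' = 1 := by
    simp only [φ']
    rw [MonObj.comp_mul, MonObj.comp_mul, GrpObj.comp_inv, GrpObj.comp_inv,
      ← Category.assoc τ₀ (fst X X), ← Category.assoc τ₀ μ[X], ← Category.assoc τ₀ (snd X X),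
      hτμ, Category.id_comp]
    have h1 : τ₀ ≫ fst X X = 1 := lift_fst _ _
    have h2 : τ₀ ≫ snd X X = 𝟙 X := lift_snd _ _
    rw [h1, h2, Category.id_comp, h1f]
    simp
  have hconn : ∀ y : X.left, y ∈ connectedComponent (η[X].left (X.hom y)) := by
    intro y
    have hfib : ConnectedSpace (X.hom.fiber (X.hom y)) :=
      connectedSpace_of_bijective _ (X.hom.fiberToSpecResidueField _) (h0 _)
    have hpre : _root_.IsPreconnected (X.hom ⁻¹' {X.hom y}) := by
      rw [← X.hom.range_fiberι, ← Set.image_univ]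
      exact (isConnected_univ.image _ (X.hom.fiberι _).continuous.continuousOn).isPreconnected
    have he : η[X].left ≫ X.hom = 𝟙 S := Over.w η[X]
    have hmem : η[X].left (X.hom y) ∈ X.hom ⁻¹' {X.hom y} := by
      change X.hom (η[X].left (X.hom y)) = X.hom y
      rw [← Scheme.Hom.comp_apply, he]; rfl
    exact hpre.subset_connectedComponent hmem rfl
  obtain ⟨h, hh⟩ := exists_eq_snd_comp S X X G h0 η[X] hconn φ' hσφ
  have hh1 : h = 1 := by
    have : τ₀ ≫ snd X X ≫ h = h := by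
      rw [← Category.assoc]
      have h2 : τ₀ ≫ snd X X = 𝟙 X := lift_snd _ _
      rw [h2, Category.id_comp]
    rw [← this, ← hh, hτφ]
  have hφ1 : φ' = 1 := by rw [hh, hh1, MonObj.comp_one]
  have hmul : μ[X] ≫ f = (fst X X ≫ f) * (snd X X ≫ f) := by
    have h3 : (fst X X ≫ f)⁻¹ * (μ[X] ≫ f) * (snd X X ≫ f)⁻¹ = 1 := hφ1
    exact inv_mul_eq_iff_eq_mul.mp (mul_inv_eq_one.mp h3)
  refine ⟨hf, ?_⟩
  rw [hmul, Hom.mul_def]
  congr 1

end Groth.Agent.Lib.Helper24.Rigid
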