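import Mathlib
import Groth.Agent.Lib.Helper24.Rigid.Group
import Groth.Agent.S1536

/-!
# Rigidity over a field: factorization through the second projection
-/

set_option autoImplicit false
universe u

open AlgebraicGeometry CategoryTheory Limits TopologicalSpace IsLocalRing Opposite
open MonoidalCategory CartesianMonoidalCategory

namespace Groth.Agent.Lib.Helper24.Rigid

theorem geometricallyConnected_of_geometricallyIrreducible {X Y : Scheme.{u}} (f : X ⟶ Y)
    [GeometricallyIrreducible f] : GeometricallyConnected f := by
  refine ⟨fun K _ y Z fst snd h => ?_⟩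
  haveI : IrreducibleSpace Z :=
    GeometricallyIrreducible.geometrically_irreducibleSpace y fst snd h
  infer_instance

/-- For `X` proper, geometrically integral over a field `k`, every fibre of `X ⟶ Spec k` (there is
only one) has `Γ = κ`. -/
theorem bijective_appTop_fiber_of_field (k : Type u) [Field k] {X : Scheme.{u}}
    (π : X ⟶ Spec (CommRingCat.of k)) [IsProper π] [GeometricallyIntegral π]
    (s : Spec (CommRingCat.of k)) :
    Function.Bijective (π.fiberToSpecResidueField s).appTop.hom := by
  haveI : GeometricallyConnected π := geometricallyConnected_of_geometricallyIrreducible π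
  have hX : IsIso π.appTop :=
    (ConcreteCategory.isIso_iff_bijective _).mpr (Groth.Agent.S1536.bijective_app_aux k X π)
  haveI : CompactSpace X := QuasiCompact.compactSpace_of_compactSpace π
  haveI : QuasiSeparatedSpace X := quasiSeparatedSpace_of_quasiSeparated π
  have H := IsPullback.of_hasPullback π ((Spec (CommRingCat.of k)).fromSpecResidueField s)
  have := isIso_appTop_of_isPullback H hX
  exact (ConcreteCategory.isIso_iff_bijective _).mp this

/-- Rigidity over a field: a morphism `X ×_k Y ⟶ Z` contracting `X × {y₀}` for one geometric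
point `y₀` of `Y` factors uniquely through the second projection. -/
theorem existsUnique_factor_snd (k : Type u) [Field k]
    (X Y Z : Over (Spec (CommRingCat.of k)))
    [IsProper X.hom] [GeometricallyIntegral X.hom]
    [LocallyOfFiniteType Y.hom] [GeometricallyIntegral Y.hom]
    [IsSeparated Z.hom] (f : X ⊗ Y ⟶ Z)
    (K : Type u) [Field K] [Algebra k K]
    (y₀ : (Over.mk (Spec.map (CommRingCat.ofHom (algebraMap k K))) :
      Over (Spec (CommRingCat.of k))) ⟶ Y)
    (z₀ : (Over.mk (Spec.map (CommRingCat.ofHom (algebraMap k K))) :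
      Over (Spec (CommRingCat.of k))) ⟶ Z)
    (h : (X ◁ y₀) ≫ f = snd X _ ≫ z₀) :
    ∃! g : Y ⟶ Z, f = snd X Y ≫ g := by
  let K' : Over (Spec (CommRingCat.of k)) := Over.mk (Spec.map (CommRingCat.ofHom (algebraMap k K)))
  haveI : IsLocallyNoetherian Y.left := LocallyOfFiniteType.isLocallyNoetherian Y.hom
  haveI : IsIntegral Y.left := GeometricallyIntegral.isIntegral_of_subsingleton Y.hom
  let p : (X ⊗ Y).left ⟶ Y.left := (snd X Y).left
  have H₀ : IsPullback (fst X Y).left p X.hom Y.hom := IsPullback.of_hasPullback X.hom Y.hom
  haveI : IsProper p := (inferInstance : IsProper (pullback.snd X.hom Y.hom))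
  haveI : Flat p := (inferInstance : Flat (pullback.snd X.hom Y.hom))
  haveI : Surjective p := (inferInstance : Surjective (pullback.snd X.hom Y.hom))
  haveI : IsLocallyNoetherian (X ⊗ Y).left := LocallyOfFiniteType.isLocallyNoetherian p
  have h0 : ∀ s, Function.Bijective (X.hom.fiberToSpecResidueField s).appTop.hom :=
    bijective_appTop_fiber_of_field k X.hom
  have h0' : ∀ y : Y.left, Function.Bijective (p.fiberToSpecResidueField y).appTop.hom :=
    bijective_appTop_fiber_of_isPullback H₀ h0
  -- the base-changed square
  have hw : (X ◁ y₀).left ≫ p = (snd X K').left ≫ y₀.left := by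
    have : (X ◁ y₀) ≫ snd X Y = snd X K' ≫ y₀ := whiskerLeft_snd _ _
    have := congrArg (fun φ => φ.left) this
    simp only [Over.comp_left] at this
    exact this
  have H₁ : IsPullback (X ◁ y₀).left (snd X K').left p y₀.left := by
    refine IsPullback.of_right ?_ hw H₀
    have h1 : (X ◁ y₀).left ≫ (fst X Y).left = (fst X K').left := by
      have : (X ◁ y₀) ≫ fst X Y = fst X K' := whiskerLeft_fst _ _
      have := congrArg (fun φ => φ.left) this
      simp only [Over.comp_left] at this
      exact this
    have h2 : y₀.left ≫ Y.hom = K'.hom := Over.w y₀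
    rw [h1, h2]
    exact IsPullback.of_hasPullback X.hom K'.hom
  obtain ⟨pt⟩ : Nonempty (Spec (CommRingCat.of K)) := inferInstance
  have hcol : ∀ z z' : (X ⊗ Y).left, p z = y₀.left pt → p z' = y₀.left pt →
      f.left z = f.left z' := by
    have key : ∀ z : (X ⊗ Y).left, p z = y₀.left pt → f.left z = z₀.left pt := by
      intro z hz
      obtain ⟨w, hw1, hw2⟩ := exists_of_isPullback H₁ z pt hz
      have h1 : (X ◁ y₀).left ≫ f.left = (snd X K').left ≫ z₀.left := by
        have := congrArg (fun φ => φ.left) h
        simp only [Over.comp_left] at this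
        exact this
      rw [← hw1, ← Scheme.Hom.comp_apply, h1, Scheme.Hom.comp_apply, hw2]
    intro z z' hz hz'
    rw [key z hz, key z' hz']
  have hf : f.left ≫ Z.hom = p ≫ Y.hom := (Over.w f).trans (Over.w (snd X Y)).symm
  obtain ⟨t, ht, hht⟩ := rigidity_proper' p h0' f.left Z.hom Y.hom hf (y₀.left pt) hcol
  refine ⟨Over.homMk t ht, ?_, ?_⟩
  · ext1
    rw [hht]
    simp [p]
  · intro g' hg'
    haveI : EffectiveEpi p := inferInstance
    ext1
    rw [← cancel_epi p]
    have := congrArg (fun φ => φ.left) hg'
    simp only [Over.comp_left] at this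
    change p ≫ g'.left = p ≫ t
    rw [← this, hht]

end Groth.Agent.Lib.Helper24.Rigid
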