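import Mathlib
import Groth.Agent.Lib.Helper24.Rigid.Proper
import Groth.Agent.Lib.Helper4.ProperAntiAff2
import Groth.Agent.Lib.Helper3.ReducedSmooth

/-!
# `κ(s) ≅ Γ(X_s)` for smooth proper families with a section and geometrically connected fibres
-/

set_option autoImplicit false
universe u

open AlgebraicGeometry CategoryTheory Limits TopologicalSpace IsLocalRing Opposite
open MonoidalCategory CartesianMonoidalCategory

namespace Groth.Agent.Lib.Helper24.Rigid

theorem surjective_Spec_map_of_field {S : Scheme.{u}} (s : S) (K : CommRingCat.{u}) [Nontrivial K]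
    (ι : S.residueField s ⟶ K) : Surjective (Spec.map ι) := by
  refine ⟨fun x => ?_⟩
  obtain ⟨y⟩ : Nonempty (PrimeSpectrum K) := inferInstance
  exact ⟨y, Subsingleton.elim _ _⟩

/-- For a smooth proper `X ⟶ S` with a section, whose fibre over `s` becomes connected after some
field extension of `κ(s)`, the ring of global functions of the fibre is `κ(s)`. -/
theorem bijective_appTop_fiber_of_smooth_proper {S X : Scheme.{u}} (π : X ⟶ S) [Smooth π]
    [IsProper π] (e : S ⟶ X) (he : e ≫ π = 𝟙 S) (s : S)
    (K : CommRingCat.{u}) [Nontrivial K] (ι : S.residueField s ⟶ K)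
    [hc : ConnectedSpace ↥(pullback π (Spec.map ι ≫ S.fromSpecResidueField s))] :
    Function.Bijective (π.fiberToSpecResidueField s).appTop.hom := by
  let t : π.fiber s ⟶ Spec (S.residueField s) := π.fiberToSpecResidueField s
  let P := pullback π (Spec.map ι ≫ S.fromSpecResidueField s)
  let m : P ⟶ π.fiber s := pullback.lift (pullback.fst _ _) (pullback.snd _ _ ≫ Spec.map ι)
    (by rw [pullback.condition, Category.assoc])
  have H : IsPullback m (pullback.snd _ _) t (Spec.map ι) := by
    refine IsPullback.of_right ?_ (pullback.lift_snd _ _ _)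
      (IsPullback.of_hasPullback π (S.fromSpecResidueField s))
    have : m ≫ pullback.fst π (S.fromSpecResidueField s) = pullback.fst _ _ :=
      pullback.lift_fst _ _ _
    rw [this]
    exact IsPullback.of_hasPullback _ _
  haveI : Surjective (Spec.map ι) := surjective_Spec_map_of_field s K ι
  haveI : Surjective m := MorphismProperty.of_isPullback (P := @Surjective) H.flip inferInstance
  haveI : ConnectedSpace ↥(π.fiber s) :=
    Function.Surjective.connectedSpace m.surjective m.continuous
  haveI : Smooth t := (inferInstance : Smooth (pullback.snd π (S.fromSpecResidueField s)))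
  haveI : UniversallyClosed t :=
    (inferInstance : UniversallyClosed (pullback.snd π (S.fromSpecResidueField s)))
  haveI : IsReduced (π.fiber s) := Groth.Agent.Lib.Helper3.isReduced_of_smooth_scheme t
  let es : Spec (S.residueField s) ⟶ π.fiber s :=
    pullback.lift (S.fromSpecResidueField s ≫ e) (𝟙 _)
      (by rw [Category.assoc, he, Category.comp_id, Category.id_comp])
  have hes : es ≫ t = 𝟙 _ := pullback.lift_snd _ _ _
  let k : Type u := S.residueField s
  let XO : Over (Spec (CommRingCat.of k)) := Over.mk t
  haveI : UniversallyClosed XO.hom := ‹UniversallyClosed t›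
  haveI : IsReduced XO.left := ‹IsReduced (π.fiber s)›
  haveI : ConnectedSpace XO.left := ‹ConnectedSpace ↥(π.fiber s)›
  let eO : 𝟙_ (Over (Spec (CommRingCat.of k))) ⟶ XO := Over.homMk es hes
  have hb := Groth.Agent.Lib.Helper4.ProperAntiAff2.bijective_of_universallyClosed_of_point k XO eO
  have hiso : Function.Bijective (Scheme.ΓSpecIso (CommRingCat.of k)).hom.hom :=
    ConcreteCategory.bijective_of_isIso _
  have := hb.comp hiso
  have h2 : ⇑t.appTop.hom = ⇑((Scheme.ΓSpecIso (CommRingCat.of k)).inv ≫ XO.hom.appTop).hom ∘
      ⇑(Scheme.ΓSpecIso (CommRingCat.of k)).hom.hom := by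
    funext x
    simp [XO]
  change Function.Bijective ⇑t.appTop.hom
  rw [h2]
  exact this

end Groth.Agent.Lib.Helper24.Rigid
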