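import Mathlib
import Groth.Agent.Lib.Helper24.Rigid.LocRep

/-!
# Rigidity lemma: approximating a function near a fibre by functions from the base
-/

set_option autoImplicit false
universe u

open AlgebraicGeometry CategoryTheory Limits TopologicalSpace IsLocalRing Opposite

namespace Groth.Agent.Lib.Helper24.Rigid

variable {X S : Scheme.{u}} (p : X ⟶ S) (s : S)

/-- The residue map `O_{S,s} → Γ(Spec κ(s))`. -/
noncomputable def rr : S.presheaf.stalk s →+* Γ(Spec (S.residueField s), ⊤) :=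
  (S.residue s ≫ (Scheme.ΓSpecIso (S.residueField s)).inv).hom

lemma rr_surjective : Function.Surjective (rr s) := by
  intro α
  obtain ⟨a, ha⟩ := IsLocalRing.residue_surjective (R := S.presheaf.stalk s)
    ((Scheme.ΓSpecIso (S.residueField s)).hom.hom α)
  refine ⟨a, ?_⟩
  change (Scheme.ΓSpecIso (S.residueField s)).inv.hom ((S.residue s).hom a) = α
  have : (S.residue s).hom a = (Scheme.ΓSpecIso (S.residueField s)).hom.hom α := ha
  rw [this, ← CommRingCat.comp_apply, Iso.hom_inv_id]
  rfl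

lemma fromSpecResidueField_appLE (V : S.Opens) (hsV : s ∈ V)
    (e : (⊤ : (Spec (S.residueField s)).Opens) ≤ (S.fromSpecResidueField s) ⁻¹ᵁ V) :
    (S.fromSpecResidueField s).appLE V ⊤ e =
      S.presheaf.germ V s hsV ≫ S.residue s ≫ (Scheme.ΓSpecIso (S.residueField s)).inv := by
  have e'' : (⊤ : (Spec (S.residueField s)).Opens) ≤
      Spec.map (S.residue s) ⁻¹ᵁ (S.fromSpecStalk s ⁻¹ᵁ V) := e
  have h2 : (S.fromSpecResidueField s).appLE V ⊤ e =
      (S.fromSpecStalk s).app V ≫ (Spec.map (S.residue s)).appLE (S.fromSpecStalk s ⁻¹ᵁ V) ⊤ e'' :=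
    Scheme.Hom.comp_appLE _ _ _ _ _
  rw [h2, Scheme.fromSpecStalk_app hsV]
  simp only [Category.assoc]
  rw [Scheme.Hom.map_appLE]
  have h3 : (Spec.map (S.residue s)).appLE ⊤ ⊤ le_top = (Spec.map (S.residue s)).appTop :=
    Scheme.Hom.appLE_eq_app _
  rw [h3, ← Scheme.ΓSpecIso_inv_naturality]

lemma appLE_congr' {X Y : Scheme.{u}} {f g : X ⟶ Y} (h : f = g) (U : Y.Opens) (V : X.Opens)
    (e : V ≤ f ⁻¹ᵁ U) : f.appLE U V e = g.appLE U V (h ▸ e) := by
  subst h; rfl

lemma top_le_preimage (V : S.Opens) (hsV : s ∈ V) :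
    (⊤ : (Spec (S.residueField s)).Opens) ≤ (S.fromSpecResidueField s) ⁻¹ᵁ V := fun x _ => by
  change S.fromSpecResidueField s x ∈ V
  rw [Scheme.fromSpecResidueField_apply]; exact hsV

/-- Compatibility: the class modulo the fibre ideal of a function coming from the base is the
constant function given by its residue class. -/
lemma compat (a : S.presheaf.stalk s) (z : ↥(p.fiber s)) :
    ((p.fiberι s).stalkMap z).hom ((ψ p s z).hom a) =
      (p.fiber s).presheaf.germ ⊤ z trivial
        ((p.fiberToSpecResidueField s).appTop.hom (rr s a)) := by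
  obtain ⟨V, hsV, a', rfl⟩ := S.presheaf.exists_germ_eq a
  rw [ψ_germ p s V hsV a' z]
  erw [Scheme.Hom.germ_stalkMap_apply]
  have e0 := top_le_preimage s V hsV
  have hr : rr s (S.presheaf.germ V s hsV a') = (S.fromSpecResidueField s).appLE V ⊤ e0 a' := by
    rw [fromSpecResidueField_appLE s V hsV e0]
    rfl
  rw [hr]
  have e1 : (⊤ : (p.fiber s).Opens) ≤
      (p.fiberToSpecResidueField s ≫ S.fromSpecResidueField s) ⁻¹ᵁ V := fun x _ => by
    change S.fromSpecResidueField s (p.fiberToSpecResidueField s x) ∈ V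
    rw [Scheme.fromSpecResidueField_apply]; exact hsV
  have h1 : (p.fiberToSpecResidueField s).appTop.hom
      ((S.fromSpecResidueField s).appLE V ⊤ e0 a') =
      (p.fiberToSpecResidueField s ≫ S.fromSpecResidueField s).appLE V ⊤ e1 a' := by
    have hh := Scheme.Hom.appLE_comp_appLE (p.fiberToSpecResidueField s)
      (S.fromSpecResidueField s) V ⊤ ⊤ e0 le_top
    have h3 : (p.fiberToSpecResidueField s).appLE ⊤ ⊤ le_top =
        (p.fiberToSpecResidueField s).appTop := Scheme.Hom.appLE_eq_app _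
    rw [h3] at hh
    exact congr($hh a')
  rw [h1, appLE_congr' (p.fiber_fac s).symm V ⊤ e1]
  unfold Scheme.Hom.appLE
  rw [CommRingCat.comp_apply]
  exact ((p.fiber s).presheaf.germ_res_apply (U := ⊤) (homOfLE _) z (by trivial) _).symm

/-- **Approximation.** If `p` is flat, `O_{S,s}` is Noetherian and all global functions on the
fibre over `s` are constants, every function `b` defined near the fibre agrees, modulo any power
of the maximal ideal of `s`, with a function coming from the base, at all points of the fibre. -/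
theorem exists_approx [Flat p] [IsNoetherianRing (S.presheaf.stalk s)]
    (h0 : Function.Surjective (p.fiberToSpecResidueField s).appTop.hom)
    (N₀ : X.Opens) (hN₀ : ∀ z : ↥(p.fiber s), p.fiberι s z ∈ N₀) (b : Γ(X, N₀)) (n : ℕ) :
    ∃ a : S.presheaf.stalk s, ∀ z : ↥(p.fiber s),
      X.presheaf.germ N₀ _ (hN₀ z) b - (ψ p s z).hom a ∈
        Ideal.map (ψ p s z).hom (maximalIdeal (S.presheaf.stalk s) ^ n) := by
  induction n with
  | zero =>
    refine ⟨0, fun z => ?_⟩
    rw [pow_zero, Ideal.one_eq_top, Ideal.map_top]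
    trivial
  | succ n ih =>
    obtain ⟨a, ha⟩ := ih
    set m := maximalIdeal (S.presheaf.stalk s) with hm
    obtain ⟨V, hsV, a', rfl⟩ := S.presheaf.exists_germ_eq a
    -- the corrected function
    let N₁ : X.Opens := N₀ ⊓ p ⁻¹ᵁ V
    have hN₁ : ∀ z : ↥(p.fiber s), p.fiberι s z ∈ N₁ := fun z =>
      ⟨hN₀ z, mem_preimage_of_mem p s V hsV z⟩
    let b₁ : Γ(X, N₁) := X.presheaf.map (homOfLE (inf_le_left : N₁ ≤ N₀)).op b -
      X.presheaf.map (homOfLE (inf_le_right : N₁ ≤ p ⁻¹ᵁ V)).op (p.app V a')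
    have hb₁ : ∀ z : ↥(p.fiber s), X.presheaf.germ N₁ _ (hN₁ z) b₁ =
        X.presheaf.germ N₀ _ (hN₀ z) b - (ψ p s z).hom (S.presheaf.germ V s hsV a') := by
      intro z
      simp only [b₁, map_sub]
      rw [ψ_germ p s V hsV a' z]
      congr 1
      · exact X.presheaf.germ_res_apply (homOfLE (inf_le_left : N₁ ≤ N₀)) _ (hN₁ z) b
      · exact X.presheaf.germ_res_apply (homOfLE (inf_le_right : N₁ ≤ p ⁻¹ᵁ V)) _ (hN₁ z) _
    obtain ⟨r, ε, hεI, hspan, hind⟩ := exists_indep_gens (S.presheaf.stalk s) (m ^ n)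
    set J := m * m ^ n with hJ
    have hdec : ∀ z : ↥(p.fiber s), ∃ c : Fin r → X.presheaf.stalk (p.fiberι s z),
        X.presheaf.germ N₁ _ (hN₁ z) b₁ - ∑ i, (ψ p s z).hom (ε i) * c i ∈
          Ideal.map (ψ p s z).hom J := by
      intro z
      have h1 := Ideal.map_mono (f := (ψ p s z).hom) hspan (ha z)
      rw [← hb₁ z, Ideal.map_sup, Ideal.map_span, ← Set.range_comp] at h1
      obtain ⟨u, hu, v, hv, huv⟩ := Submodule.mem_sup.mp h1
      obtain ⟨c, hc⟩ := Ideal.mem_span_range_iff_exists_fun.mp hu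
      refine ⟨c, ?_⟩
      have : X.presheaf.germ N₁ _ (hN₁ z) b₁ - ∑ i, (ψ p s z).hom (ε i) * c i = v := by
        rw [← huv, ← hc]
        simp [mul_comm]
      rw [this]
      exact hv
    choose c hc using hdec
    -- the coefficients are constants modulo the ideal of the fibre
    have hconst : ∀ i : Fin r, ∃ ã : S.presheaf.stalk s, ∀ z : ↥(p.fiber s),
        c z i - (ψ p s z).hom ã ∈ Ideal.map (ψ p s z).hom m := by
      intro i
      have hloc := locRep_of_decomposition p s J ε hind N₁ hN₁ b₁ c hc i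
      obtain ⟨τ, hτ⟩ := exists_glue p s (fun z => c z i) hloc
      obtain ⟨α, rfl⟩ := h0 τ
      obtain ⟨ã, rfl⟩ := rr_surjective s α
      refine ⟨ã, fun z => ?_⟩
      rw [← ker_stalkMap_fiberι, RingHom.mem_ker, map_sub, sub_eq_zero, compat p s ã z]
      exact (hτ z).symm
    choose ã hã using hconst
    refine ⟨S.presheaf.germ V s hsV a' + ∑ i, ε i * ã i, fun z => ?_⟩
    have h6 : X.presheaf.germ N₀ _ (hN₀ z) b -
        (ψ p s z).hom (S.presheaf.germ V s hsV a' + ∑ i, ε i * ã i) =
        (X.presheaf.germ N₁ _ (hN₁ z) b₁ - ∑ i, (ψ p s z).hom (ε i) * c z i) +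
          ∑ i, (ψ p s z).hom (ε i) * (c z i - (ψ p s z).hom (ã i)) := by
      rw [hb₁ z, map_add, map_sum]
      simp only [map_mul, mul_sub, Finset.sum_sub_distrib]
      ring
    rw [h6]
    refine Ideal.add_mem _ ?_ (Ideal.sum_mem _ fun i _ => ?_)
    · rw [pow_succ']
      exact hc z
    · rw [pow_succ, Ideal.map_mul]
      exact Ideal.mul_mem_mul (Ideal.mem_map_of_mem _ (hεI i)) (hã i z)

end Groth.Agent.Lib.Helper24.Rigid
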