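import Mathlib
import Groth.Agent.Lib.Helper24.Rigid.Approx

/-!
# Global functions of a flat scheme over a local Artinian ring
-/

set_option autoImplicit false
universe u

open AlgebraicGeometry CategoryTheory Limits TopologicalSpace IsLocalRing Opposite

namespace Groth.Agent.Lib.Helper24.Rigid

variable {X S : Scheme.{u}} (p : X ⟶ S) (s : S)

/-- `ψ` is injective when `p` is flat. -/
lemma ψ_injective [Flat p] (z : ↥(p.fiber s)) : Function.Injective (ψ p s z).hom := by
  letI := (ψ p s z).hom.toAlgebra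
  haveI : Module.Flat (S.presheaf.stalk s) (X.presheaf.stalk (p.fiberι s z)) := flat_ψ p s z
  haveI : IsLocalHom (algebraMap (S.presheaf.stalk s) (X.presheaf.stalk (p.fiberι s z))) := by
    change IsLocalHom (ψ p s z).hom
    unfold ψ
    rw [CommRingCat.hom_comp]
    haveI := isIso_stalkSpecializes p s z
    haveI : IsLocalHom (S.presheaf.stalkSpecializes
        (specializes_of_eq (p_fiberι p s z))).hom := isLocalHom_of_isIso _
    exact RingHom.isLocalHom_comp _ _
  haveI : Module.FaithfullyFlat (S.presheaf.stalk s) (X.presheaf.stalk (p.fiberι s z)) :=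
    Module.FaithfullyFlat.of_flat_of_isLocalHom
  exact FaithfulSMul.algebraMap_injective _ _

/-- For a flat scheme `X` over a local Artinian ring `C` whose closed fibre has only constant
global functions, `C → Γ(X, O_X)` is bijective. -/
theorem bijective_of_flat_over_localArtinian (C : Type u) [CommRing C] [IsLocalRing C]
    [IsArtinianRing C] (X X₀ : Scheme.{u}) (g : X ⟶ Spec (CommRingCat.of C)) [Flat g]
    (i : X₀ ⟶ X) (f₀ : X₀ ⟶ Spec (CommRingCat.of (C ⧸ maximalIdeal C)))
    (hsq : IsPullback i f₀ g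
      (Spec.map (CommRingCat.ofHom (Ideal.Quotient.mk (maximalIdeal C)))))
    (h0 : Function.Bijective ((Scheme.ΓSpecIso (CommRingCat.of (C ⧸ maximalIdeal C))).inv ≫
      f₀.appTop)) :
    Function.Bijective ((Scheme.ΓSpecIso (CommRingCat.of C)).inv ≫ g.appTop) := by
  let K := C ⧸ maximalIdeal C
  letI : Field K := Ideal.Quotient.field (maximalIdeal C)
  let S := Spec (CommRingCat.of C)
  let q : Spec (CommRingCat.of K) ⟶ S := Spec.map (CommRingCat.ofHom (Ideal.Quotient.mk _))
  -- the base is a single point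
  haveI hsub : Subsingleton S := by
    refine ⟨fun x y => ?_⟩
    apply PrimeSpectrum.ext
    haveI : x.asIdeal.IsPrime := x.isPrime
    haveI : y.asIdeal.IsPrime := y.isPrime
    have hx : x.asIdeal = maximalIdeal C :=
      IsLocalRing.eq_maximalIdeal (IsArtinianRing.isMaximal_of_isPrime x.asIdeal)
    have hy : y.asIdeal = maximalIdeal C :=
      IsLocalRing.eq_maximalIdeal (IsArtinianRing.isMaximal_of_isPrime y.asIdeal)
    rw [hx, hy]
  let s : S := q (closedPoint K)
  have htop : ∀ V : S.Opens, s ∈ V → V = ⊤ := by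
    intro V hsV
    ext x
    simp only [SetLike.mem_coe]
    constructor
    · intro _; trivial
    · intro _; rwa [Subsingleton.elim x s]
  -- the residue field at `s` is `K`
  let φ : S.residueField s ⟶ CommRingCat.of K := S.descResidueField (Scheme.stalkClosedPointTo q)
  have hφ : Spec.map φ ≫ S.fromSpecResidueField s = q :=
    Scheme.descResidueField_stalkClosedPointTo_fromSpecResidueField K S q
  have hφsurj : Function.Surjective φ.hom := by
    intro k
    obtain ⟨c, rfl⟩ := Ideal.Quotient.mk_surjective k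
    -- the function `c` on `S`
    let c' : Γ(S, ⊤) := (Scheme.ΓSpecIso (CommRingCat.of C)).inv.hom c
    have h1 : q.appTop = (Scheme.ΓSpecIso (CommRingCat.of C)).hom ≫
        CommRingCat.ofHom (Ideal.Quotient.mk (maximalIdeal C)) ≫
        (Scheme.ΓSpecIso (CommRingCat.of K)).inv := by
      rw [Scheme.ΓSpecIso_inv_naturality, Iso.hom_inv_id_assoc]
    have h2 : q.appTop = (S.fromSpecResidueField s).appTop ≫ (Spec.map φ).appTop := by
      rw [← Scheme.Hom.comp_appTop, hφ]
    have h3 : (Spec.map φ).appTop = (Scheme.ΓSpecIso (S.residueField s)).hom ≫ φ ≫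
        (Scheme.ΓSpecIso (CommRingCat.of K)).inv := by
      rw [Scheme.ΓSpecIso_inv_naturality, Iso.hom_inv_id_assoc]
    refine ⟨(Scheme.ΓSpecIso (S.residueField s)).hom.hom ((S.fromSpecResidueField s).appTop.hom c'), ?_⟩
    have h4 : q.appTop.hom c' = (Scheme.ΓSpecIso (CommRingCat.of K)).inv.hom
        (Ideal.Quotient.mk (maximalIdeal C) c) := by
      have e1 : (Scheme.ΓSpecIso (CommRingCat.of C)).hom.hom c' = c := by
        simp only [c']
        rw [← RingHom.comp_apply, ← CommRingCat.hom_comp, Iso.inv_hom_id]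
        rfl
      rw [h1]
      change (Scheme.ΓSpecIso (CommRingCat.of K)).inv.hom (Ideal.Quotient.mk (maximalIdeal C)
        ((Scheme.ΓSpecIso (CommRingCat.of C)).hom.hom c')) = _
      rw [e1]
    have h5 : q.appTop.hom c' = (Scheme.ΓSpecIso (CommRingCat.of K)).inv.hom
        (φ.hom ((Scheme.ΓSpecIso (S.residueField s)).hom.hom
          ((S.fromSpecResidueField s).appTop.hom c'))) := by
      rw [h2, h3]
      rfl
    have hinj : Function.Injective (Scheme.ΓSpecIso (CommRingCat.of K)).inv.hom :=
      (ConcreteCategory.bijective_of_isIso (Scheme.ΓSpecIso (CommRingCat.of K)).inv).1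
    exact hinj (h5.symm.trans h4)
  haveI : IsIso φ := by
    rw [ConcreteCategory.isIso_iff_bijective]
    exact ⟨(φ.hom).injective, hφsurj⟩
  let θ : Spec (CommRingCat.of K) ⟶ Spec (S.residueField s) := Spec.map φ
  haveI : IsIso θ := inferInstance
  -- the fibre
  let t : g.fiber s ⟶ Spec (S.residueField s) := g.fiberToSpecResidueField s
  let lift : X₀ ⟶ g.fiber s := pullback.lift i (f₀ ≫ θ) (by
    rw [Category.assoc, hφ]; exact hsq.w)
  have hlift₁ : lift ≫ g.fiberι s = i := pullback.lift_fst _ _ _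
  have hlift₂ : lift ≫ t = f₀ ≫ θ := pullback.lift_snd _ _ _
  have Hl : IsPullback lift f₀ t θ := by
    refine IsPullback.of_right ?_ hlift₂ (IsPullback.of_hasPullback g (S.fromSpecResidueField s))
    have : lift ≫ pullback.fst g (S.fromSpecResidueField s) = i := hlift₁
    rw [this, hφ]
    exact hsq
  haveI : IsIso lift := Hl.isIso_fst_of_isIso
  have hf₀surj : Function.Surjective f₀.appTop.hom := by
    intro x
    obtain ⟨y, hy⟩ := h0.2 x
    exact ⟨(Scheme.ΓSpecIso (CommRingCat.of K)).inv.hom y, hy⟩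
  have h0' : Function.Surjective t.appTop.hom := by
    intro τ
    obtain ⟨β, hβ⟩ := hf₀surj (lift.appTop.hom τ)
    haveI : IsIso θ.appTop := (inferInstance : IsIso (θ.app ⊤))
    have hθ : Function.Surjective θ.appTop.hom :=
      (ConcreteCategory.bijective_of_isIso θ.appTop).2
    obtain ⟨α, rfl⟩ := hθ β
    refine ⟨α, ?_⟩
    haveI : IsIso lift.appTop := (inferInstance : IsIso (lift.app ⊤))
    have hinj : Function.Injective lift.appTop.hom :=
      (ConcreteCategory.bijective_of_isIso lift.appTop).1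
    apply hinj
    rw [← hβ]
    have : t.appTop ≫ lift.appTop = θ.appTop ≫ f₀.appTop := by
      rw [← Scheme.Hom.comp_appTop, ← Scheme.Hom.comp_appTop, hlift₂]
    exact congr($this α)
  -- the fibre is nonempty
  have hne : Nonempty ↥(g.fiber s) := by
    by_contra hemp
    rw [not_nonempty_iff] at hemp
    haveI : IsEmpty X₀ := ⟨fun x => hemp.elim (lift x)⟩
    have hsubΓ : Subsingleton Γ(X₀, ⊤) := by
      have : (⊤ : X₀.Opens) = ⊥ := by
        ext x
        exact isEmptyElim x
      rw [this]
      infer_instance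
    have : (1 : K) = 0 := h0.1 (Subsingleton.elim _ _)
    exact one_ne_zero this
  obtain ⟨z₀⟩ := hne
  -- all points of `X` lie on the fibre
  have hall : ∀ x : X, ∃ z : ↥(g.fiber s), g.fiberι s z = x := fun x =>
    exists_fiberι_eq g s x (Subsingleton.elim _ _)
  -- the local ring at `s` is Artinian
  haveI : IsArtinianRing (S.presheaf.stalk s) :=
    (Spec.stalkIso (CommRingCat.of C) s).commRingCatIsoToRingEquiv.symm.isArtinianRing
  obtain ⟨n, hn⟩ : ∃ n : ℕ, maximalIdeal (S.presheaf.stalk s) ^ n = ⊥ := by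
    have := IsArtinianRing.isNilpotent_jacobson_bot (R := S.presheaf.stalk s)
    rw [IsLocalRing.jacobson_eq_maximalIdeal ⊥ bot_ne_top] at this
    exact this
  constructor
  · -- injectivity
    intro c₁ c₂ hc
    have hc' : g.appTop.hom ((Scheme.ΓSpecIso (CommRingCat.of C)).inv.hom c₁) =
        g.appTop.hom ((Scheme.ΓSpecIso (CommRingCat.of C)).inv.hom c₂) := hc
    set a₁ := (Scheme.ΓSpecIso (CommRingCat.of C)).inv.hom c₁
    set a₂ := (Scheme.ΓSpecIso (CommRingCat.of C)).inv.hom c₂
    have hg : S.presheaf.germ ⊤ s trivial a₁ = S.presheaf.germ ⊤ s trivial a₂ := by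
      apply ψ_injective g s z₀
      rw [ψ_germ g s ⊤ trivial a₁ z₀, ψ_germ g s ⊤ trivial a₂ z₀]
      exact congrArg _ hc'
    obtain ⟨W, hsW, iU, iV, hres⟩ := S.presheaf.germ_eq (U := ⊤) (V := ⊤) s (by trivial) (by trivial) a₁ a₂ hg
    have hW := htop W hsW
    subst hW
    have h1 : S.presheaf.map iU.op = 𝟙 _ := by
      rw [Subsingleton.elim iU (𝟙 _)]; exact S.presheaf.map_id _
    have h2 : S.presheaf.map iV.op = 𝟙 _ := by
      rw [Subsingleton.elim iV (𝟙 _)]; exact S.presheaf.map_id _
    rw [h1, h2] at hres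
    have ha : a₁ = a₂ := hres
    have hinj : Function.Injective (Scheme.ΓSpecIso (CommRingCat.of C)).inv.hom :=
      (ConcreteCategory.bijective_of_isIso (Scheme.ΓSpecIso (CommRingCat.of C)).inv).1
    exact hinj ha
  · -- surjectivity
    intro b
    have hN₀ : ∀ z : ↥(g.fiber s), g.fiberι s z ∈ (⊤ : X.Opens) := fun _ => trivial
    obtain ⟨a, ha⟩ := exists_approx g s h0' ⊤ hN₀ b n
    obtain ⟨V, hsV, a', rfl⟩ := S.presheaf.exists_germ_eq a
    have hV := htop V hsV
    subst hV
    refine ⟨(Scheme.ΓSpecIso (CommRingCat.of C)).hom.hom a', ?_⟩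
    change g.appTop.hom ((Scheme.ΓSpecIso (CommRingCat.of C)).inv.hom
      ((Scheme.ΓSpecIso (CommRingCat.of C)).hom.hom a')) = b
    have h1 : (Scheme.ΓSpecIso (CommRingCat.of C)).inv.hom
        ((Scheme.ΓSpecIso (CommRingCat.of C)).hom.hom a') = a' := by
      rw [← RingHom.comp_apply, ← CommRingCat.hom_comp, Iso.hom_inv_id]
      rfl
    rw [h1]
    apply TopCat.Presheaf.section_ext X.sheaf
    intro x hx
    obtain ⟨z, rfl⟩ := hall x
    have h2 := ha z
    rw [hn, Ideal.map_bot, Ideal.mem_bot, sub_eq_zero] at h2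
    rw [ψ_germ g s ⊤ trivial a' z] at h2
    exact h2.symm

end Groth.Agent.Lib.Helper24.Rigid
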