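import Mathlib
import Groth.Agent.Lib.Helper24.Rigid.Artin
import Groth.Agent.Lib.Helper24.Rigid.Vanish

/-!
# Global functions of a proper flat scheme over a complete Noetherian local ring
-/

set_option autoImplicit false
universe u

open AlgebraicGeometry CategoryTheory Limits TopologicalSpace IsLocalRing Opposite

namespace Groth.Agent.Lib.Helper24.Rigid

/-- Faithful flatness of `ψ`: membership in an ideal can be tested after applying `ψ`. -/
lemma mem_of_ψ_mem_map {X S : Scheme.{u}} (p : X ⟶ S) (s : S) [Flat p] (z : ↥(p.fiber s))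
    (I : Ideal (S.presheaf.stalk s)) (a : S.presheaf.stalk s)
    (ha : (ψ p s z).hom a ∈ Ideal.map (ψ p s z).hom I) : a ∈ I := by
  letI := (ψ p s z).hom.toAlgebra
  haveI : Module.Flat (S.presheaf.stalk s) (X.presheaf.stalk (p.fiberι s z)) := flat_ψ p s z
  haveI : IsLocalHom (algebraMap (S.presheaf.stalk s) (X.presheaf.stalk (p.fiberι s z))) := by
    change IsLocalHom (ψ p s z).hom
    unfold ψ
    rw [CommRingCat.hom_comp]
    haveI := isIso_stalkSpecializes p s z
    haveI : IsLocalHom (S.presheaf.stalkSpecializes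
        (specializes_of_eq (p_fiberι p s z))).hom := isLocalHom_of_isIso _
    exact RingHom.isLocalHom_comp _ _
  haveI : Module.FaithfullyFlat (S.presheaf.stalk s) (X.presheaf.stalk (p.fiberι s z)) :=
    Module.FaithfullyFlat.of_flat_of_isLocalHom
  have h := Ideal.comap_map_eq_self_of_faithfullyFlat
    (B := X.presheaf.stalk (p.fiberι s z)) I
  rw [← h]
  exact ha

/-- The set-up over a local ring: the closed point `s`, the fibre over it, and the hypothesis on
global functions of the fibre transported to `p.fiber s`. -/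
theorem local_setup (C : Type u) [CommRing C] [IsLocalRing C]
    (X X₀ : Scheme.{u}) (g : X ⟶ Spec (CommRingCat.of C))
    (i : X₀ ⟶ X) (f₀ : X₀ ⟶ Spec (CommRingCat.of (C ⧸ maximalIdeal C)))
    (hsq : IsPullback i f₀ g
      (Spec.map (CommRingCat.ofHom (Ideal.Quotient.mk (maximalIdeal C)))))
    (h0 : Function.Bijective ((Scheme.ΓSpecIso (CommRingCat.of (C ⧸ maximalIdeal C))).inv ≫
      f₀.appTop)) :
    ∃ s : ↥(Spec (CommRingCat.of C)), (∀ x : ↥(Spec (CommRingCat.of C)), x ⤳ s) ∧
      Function.Surjective (g.fiberToSpecResidueField s).appTop.hom ∧ Nonempty ↥(g.fiber s) := by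
  let K := C ⧸ maximalIdeal C
  letI : Field K := Ideal.Quotient.field (maximalIdeal C)
  let S := Spec (CommRingCat.of C)
  let q : Spec (CommRingCat.of K) ⟶ S := Spec.map (CommRingCat.ofHom (Ideal.Quotient.mk _))
  let s : S := q (closedPoint K)
  have hs : s = closedPoint C := by
    haveI : IsLocalHom (Ideal.Quotient.mk (maximalIdeal C)) :=
      IsLocalHom.of_surjective _ Ideal.Quotient.mk_surjective
    exact IsLocalRing.comap_closedPoint (Ideal.Quotient.mk (maximalIdeal C))
  refine ⟨s, fun x => ?_, ?_⟩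
  · rw [hs]
    exact IsLocalRing.specializes_closedPoint x
  -- the residue field at `s` is `K`
  let φ : S.residueField s ⟶ CommRingCat.of K := S.descResidueField (Scheme.stalkClosedPointTo q)
  have hφ : Spec.map φ ≫ S.fromSpecResidueField s = q :=
    Scheme.descResidueField_stalkClosedPointTo_fromSpecResidueField K S q
  have hφsurj : Function.Surjective φ.hom := by
    intro k
    obtain ⟨c, rfl⟩ := Ideal.Quotient.mk_surjective k
    -- the function `c` on `S`
    let c' : Γ(S, ⊤) := (Scheme.ΓSpecIso (CommRingCat.of C)).inv.hom c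
    have h1 : q.appTop = (Scheme.ΓSpecIso (CommRingCat.of C)).hom ≫
        CommRingCat.ofHom (Ideal.Quotient.mk (maximalIdeal C)) ≫
        (Scheme.ΓSpecIso (CommRingCat.of K)).inv := by
      rw [Scheme.ΓSpecIso_inv_naturality, Iso.hom_inv_id_assoc]
    have h2 : q.appTop = (S.fromSpecResidueField s).appTop ≫ (Spec.map φ).appTop := by
      rw [← Scheme.Hom.comp_appTop, hφ]
    have h3 : (Spec.map φ).appTop = (Scheme.ΓSpecIso (S.residueField s)).hom ≫ φ ≫
        (Scheme.ΓSpecIso (CommRingCat.of K)).inv := by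
      rw [Scheme.ΓSpecIso_inv_naturality, Iso.hom_inv_id_assoc]
    refine ⟨(Scheme.ΓSpecIso (S.residueField s)).hom.hom ((S.fromSpecResidueField s).appTop.hom c'), ?_⟩
    have h4 : q.appTop.hom c' = (Scheme.ΓSpecIso (CommRingCat.of K)).inv.hom
        (Ideal.Quotient.mk (maximalIdeal C) c) := by
      have e1 : (Scheme.ΓSpecIso (CommRingCat.of C)).hom.hom c' = c := by
        simp only [c']
        rw [← RingHom.comp_apply, ← CommRingCat.hom_comp, Iso.inv_hom_id]
        rfl
      rw [h1]
      change (Scheme.ΓSpecIso (CommRingCat.of K)).inv.hom (Ideal.Quotient.mk (maximalIdeal C)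
        ((Scheme.ΓSpecIso (CommRingCat.of C)).hom.hom c')) = _
      rw [e1]
    have h5 : q.appTop.hom c' = (Scheme.ΓSpecIso (CommRingCat.of K)).inv.hom
        (φ.hom ((Scheme.ΓSpecIso (S.residueField s)).hom.hom
          ((S.fromSpecResidueField s).appTop.hom c'))) := by
      rw [h2, h3]
      rfl
    have hinj : Function.Injective (Scheme.ΓSpecIso (CommRingCat.of K)).inv.hom :=
      (ConcreteCategory.bijective_of_isIso (Scheme.ΓSpecIso (CommRingCat.of K)).inv).1
    exact hinj (h5.symm.trans h4)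
  haveI : IsIso φ := by
    rw [ConcreteCategory.isIso_iff_bijective]
    exact ⟨(φ.hom).injective, hφsurj⟩
  let θ : Spec (CommRingCat.of K) ⟶ Spec (S.residueField s) := Spec.map φ
  haveI : IsIso θ := inferInstance
  -- the fibre
  let t : g.fiber s ⟶ Spec (S.residueField s) := g.fiberToSpecResidueField s
  let lift : X₀ ⟶ g.fiber s := pullback.lift i (f₀ ≫ θ) (by
    rw [Category.assoc, hφ]; exact hsq.w)
  have hlift₁ : lift ≫ g.fiberι s = i := pullback.lift_fst _ _ _
  have hlift₂ : lift ≫ t = f₀ ≫ θ := pullback.lift_snd _ _ _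
  have Hl : IsPullback lift f₀ t θ := by
    refine IsPullback.of_right ?_ hlift₂ (IsPullback.of_hasPullback g (S.fromSpecResidueField s))
    have : lift ≫ pullback.fst g (S.fromSpecResidueField s) = i := hlift₁
    rw [this, hφ]
    exact hsq
  haveI : IsIso lift := Hl.isIso_fst_of_isIso
  have hf₀surj : Function.Surjective f₀.appTop.hom := by
    intro x
    obtain ⟨y, hy⟩ := h0.2 x
    exact ⟨(Scheme.ΓSpecIso (CommRingCat.of K)).inv.hom y, hy⟩
  constructor
  · intro τ
    obtain ⟨β, hβ⟩ := hf₀surj (lift.appTop.hom τ)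
    haveI : IsIso θ.appTop := (inferInstance : IsIso (θ.app ⊤))
    have hθ : Function.Surjective θ.appTop.hom :=
      (ConcreteCategory.bijective_of_isIso θ.appTop).2
    obtain ⟨α, rfl⟩ := hθ β
    refine ⟨α, ?_⟩
    haveI : IsIso lift.appTop := (inferInstance : IsIso (lift.app ⊤))
    have hinj : Function.Injective lift.appTop.hom :=
      (ConcreteCategory.bijective_of_isIso lift.appTop).1
    apply hinj
    rw [← hβ]
    have : t.appTop ≫ lift.appTop = θ.appTop ≫ f₀.appTop := by
      rw [← Scheme.Hom.comp_appTop, ← Scheme.Hom.comp_appTop, hlift₂]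
    exact congr($this α)
  · -- the fibre is nonempty
    by_contra hemp
    rw [not_nonempty_iff] at hemp
    haveI : IsEmpty X₀ := ⟨fun x => hemp.elim (lift x)⟩
    have hsubΓ : Subsingleton Γ(X₀, ⊤) := by
      have : (⊤ : X₀.Opens) = ⊥ := by
        ext x
        exact isEmptyElim x
      rw [this]
      infer_instance
    have : (1 : K) = 0 := h0.1 (Subsingleton.elim _ _)
    exact one_ne_zero this

/-- For a proper flat scheme `X` over a complete Noetherian local ring `R` whose closed fibre has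
only constant global functions, `R → Γ(X, O_X)` is bijective. -/
theorem bijective_of_proper_flat_over_completeLocal (R : Type u) [CommRing R] [IsLocalRing R]
    [IsNoetherianRing R] [IsAdicComplete (maximalIdeal R) R]
    (X X₀ : Scheme.{u}) (g : X ⟶ Spec (CommRingCat.of R)) [IsProper g] [Flat g]
    (i : X₀ ⟶ X) (f₀ : X₀ ⟶ Spec (CommRingCat.of (R ⧸ maximalIdeal R)))
    (hsq : IsPullback i f₀ g
      (Spec.map (CommRingCat.ofHom (Ideal.Quotient.mk (maximalIdeal R)))))
    (h0 : Function.Bijective ((Scheme.ΓSpecIso (CommRingCat.of (R ⧸ maximalIdeal R))).inv ≫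
      f₀.appTop)) :
    Function.Bijective ((Scheme.ΓSpecIso (CommRingCat.of R)).inv ≫ g.appTop) := by
  obtain ⟨s, hspec, h0', ⟨z₀⟩⟩ := local_setup R X X₀ g i f₀ hsq h0
  have htop : ∀ V : (Spec (CommRingCat.of R)).Opens, s ∈ V → V = ⊤ := by
    intro V hsV
    ext x
    simp only [SetLike.mem_coe]
    constructor
    · intro _; trivial
    · intro _; exact (hspec x).mem_open V.2 hsV
  haveI : IsLocallyNoetherian X := LocallyOfFiniteType.isLocallyNoetherian g
  have hall : ∀ x : X, g x = s → ∃ z : ↥(g.fiber s), g.fiberι s z = x := fun x hx =>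
    exists_fiberι_eq g s x hx
  -- global functions on `S` are germs at `s`
  have hgerm_inj : ∀ a₁ a₂ : Γ(Spec (CommRingCat.of R), ⊤),
      (Spec (CommRingCat.of R)).presheaf.germ ⊤ s trivial a₁ = (Spec (CommRingCat.of R)).presheaf.germ ⊤ s trivial a₂ → a₁ = a₂ := by
    intro a₁ a₂ hg
    obtain ⟨W, hsW, iU, iV, hres⟩ :=
      (Spec (CommRingCat.of R)).presheaf.germ_eq (U := ⊤) (V := ⊤) s (by trivial) (by trivial) a₁ a₂ hg
    have hW := htop W hsW
    subst hW
    have h1 : (Spec (CommRingCat.of R)).presheaf.map iU.op = 𝟙 _ := by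
      rw [Subsingleton.elim iU (𝟙 _)]; exact (Spec (CommRingCat.of R)).presheaf.map_id _
    have h2 : (Spec (CommRingCat.of R)).presheaf.map iV.op = 𝟙 _ := by
      rw [Subsingleton.elim iV (𝟙 _)]; exact (Spec (CommRingCat.of R)).presheaf.map_id _
    rw [h1, h2] at hres
    exact hres
  have hgerm_surj : ∀ a : (Spec (CommRingCat.of R)).presheaf.stalk s, ∃ a' : Γ(Spec (CommRingCat.of R), ⊤),
      (Spec (CommRingCat.of R)).presheaf.germ ⊤ s trivial a' = a := by
    intro a
    obtain ⟨V, hsV, a', rfl⟩ := (Spec (CommRingCat.of R)).presheaf.exists_germ_eq a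
    have hV := htop V hsV
    subst hV
    exact ⟨a', rfl⟩
  let ε : R →+* (Spec (CommRingCat.of R)).presheaf.stalk s :=
    ((Spec (CommRingCat.of R)).presheaf.germ ⊤ s trivial).hom.comp (Scheme.ΓSpecIso (CommRingCat.of R)).inv.hom
  have hΓbij : Function.Bijective (Scheme.ΓSpecIso (CommRingCat.of R)).inv.hom :=
    ConcreteCategory.bijective_of_isIso (Scheme.ΓSpecIso (CommRingCat.of R)).inv
  have hεinj : Function.Injective ε := by
    intro r₁ r₂ h
    exact hΓbij.1 (hgerm_inj _ _ h)
  have hεsurj : Function.Surjective ε := by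
    intro a
    obtain ⟨a', rfl⟩ := hgerm_surj a
    obtain ⟨r, rfl⟩ := hΓbij.2 a'
    exact ⟨r, rfl⟩
  let e : R ≃+* (Spec (CommRingCat.of R)).presheaf.stalk s := RingEquiv.ofBijective ε ⟨hεinj, hεsurj⟩
  haveI : IsNoetherianRing ((Spec (CommRingCat.of R)).presheaf.stalk s) := isNoetherianRing_of_ringEquiv R e
  -- the maximal ideals correspond
  have hmax : maximalIdeal ((Spec (CommRingCat.of R)).presheaf.stalk s) = Ideal.map ε (maximalIdeal R) := by
    apply le_antisymm
    · intro y hy
      obtain ⟨x, rfl⟩ := hεsurj y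
      apply Ideal.mem_map_of_mem
      rw [mem_maximalIdeal, mem_nonunits_iff] at hy ⊢
      exact fun hx => hy (hx.map ε)
    · rw [Ideal.map_le_iff_le_comap]
      intro x hx
      rw [Ideal.mem_comap, mem_maximalIdeal, mem_nonunits_iff]
      rw [mem_maximalIdeal, mem_nonunits_iff] at hx
      intro hu
      apply hx
      have : IsUnit (e x) := hu
      exact (isUnit_map_iff e x).mp this
  have hpow : ∀ n : ℕ, ∀ r : R, ε r ∈ maximalIdeal ((Spec (CommRingCat.of R)).presheaf.stalk s) ^ n →
      r ∈ maximalIdeal R ^ n := by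
    intro n r hr
    rw [hmax, ← Ideal.map_pow, Ideal.mem_map_iff_of_surjective ε hεsurj] at hr
    obtain ⟨r', hr', h⟩ := hr
    rwa [← hεinj h]
  have hpow' : ∀ n : ℕ, ∀ r : R, r ∈ maximalIdeal R ^ n →
      ε r ∈ maximalIdeal ((Spec (CommRingCat.of R)).presheaf.stalk s) ^ n := by
    intro n r hr
    rw [hmax, ← Ideal.map_pow]
    exact Ideal.mem_map_of_mem _ hr
  constructor
  · -- injectivity
    intro c₁ c₂ hc
    have hc' : g.appTop.hom ((Scheme.ΓSpecIso (CommRingCat.of R)).inv.hom c₁) =
        g.appTop.hom ((Scheme.ΓSpecIso (CommRingCat.of R)).inv.hom c₂) := hc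
    apply hεinj
    apply ψ_injective g s z₀
    change (ψ g s z₀).hom ((Spec (CommRingCat.of R)).presheaf.germ ⊤ s trivial _) =
      (ψ g s z₀).hom ((Spec (CommRingCat.of R)).presheaf.germ ⊤ s trivial _)
    rw [ψ_germ g s ⊤ trivial _ z₀, ψ_germ g s ⊤ trivial _ z₀]
    exact congrArg _ hc'
  · -- surjectivity
    intro b
    have hN₀ : ∀ z : ↥(g.fiber s), g.fiberι s z ∈ (⊤ : X.Opens) := fun _ => trivial
    have happ : ∀ n : ℕ, ∃ r : R, ∀ z : ↥(g.fiber s),
        X.presheaf.germ ⊤ _ (hN₀ z) b - (ψ g s z).hom (ε r) ∈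
          Ideal.map (ψ g s z).hom (maximalIdeal ((Spec (CommRingCat.of R)).presheaf.stalk s) ^ n) := by
      intro n
      obtain ⟨a, ha⟩ := exists_approx g s h0' ⊤ hN₀ b n
      obtain ⟨r, rfl⟩ := hεsurj a
      exact ⟨r, ha⟩
    choose r hr using happ
    -- the sequence is Cauchy
    have hcauchy : ∀ n, r n ≡ r (n + 1) [SMOD (maximalIdeal R ^ n • ⊤ : Submodule R R)] := by
      intro n
      rw [SModEq.sub_mem, smul_eq_mul, Ideal.mul_top]
      apply hpow
      apply mem_of_ψ_mem_map g s z₀
      have h1 := hr n z₀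
      have h2 := Ideal.map_mono (f := (ψ g s z₀).hom)
        (Ideal.pow_le_pow_right (I := maximalIdeal ((Spec (CommRingCat.of R)).presheaf.stalk s)) (Nat.le_succ n))
        (hr (n + 1) z₀)
      have h3 := Ideal.sub_mem _ h2 h1
      have : (ψ g s z₀).hom (ε (r n - r (n + 1))) =
          (X.presheaf.germ ⊤ _ (hN₀ z₀) b - (ψ g s z₀).hom (ε (r (n + 1)))) -
            (X.presheaf.germ ⊤ _ (hN₀ z₀) b - (ψ g s z₀).hom (ε (r n))) := by
        rw [map_sub, map_sub]; ring
      rw [this]
      exact h3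
    have hcau : AdicCompletion.IsAdicCauchy (maximalIdeal R) R r :=
      (AdicCompletion.isAdicCauchy_iff (maximalIdeal R) R r).mpr hcauchy
    obtain ⟨L, hL⟩ := IsPrecomplete.prec (I := maximalIdeal R) (M := R) inferInstance hcau
    have hL' : ∀ n, r n - L ∈ maximalIdeal R ^ n := by
      intro n
      have := hL n
      rwa [SModEq.sub_mem, smul_eq_mul, Ideal.mul_top] at this
    refine ⟨L, ?_⟩
    change g.appTop.hom ((Scheme.ΓSpecIso (CommRingCat.of R)).inv.hom L) = b
    set a' : Γ(Spec (CommRingCat.of R), ⊤) := (Scheme.ΓSpecIso (CommRingCat.of R)).inv.hom L with ha'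
    -- germs agree along the closed fibre
    have hfib : ∀ z : ↥(g.fiber s), X.presheaf.germ ⊤ _ (hN₀ z) b =
        X.presheaf.germ ⊤ _ (hN₀ z) (g.appTop.hom a') := by
      intro z
      have hmem : ∀ n, X.presheaf.germ ⊤ _ (hN₀ z) b - (ψ g s z).hom (ε L) ∈
          maximalIdeal (X.presheaf.stalk (g.fiberι s z)) ^ n := by
        intro n
        have h1 := hr n z
        have h2 : (ψ g s z).hom (ε (r n - L)) ∈
            Ideal.map (ψ g s z).hom (maximalIdeal ((Spec (CommRingCat.of R)).presheaf.stalk s) ^ n) :=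
          Ideal.mem_map_of_mem _ (hpow' n _ (hL' n))
        have h3 := Ideal.add_mem _ h1 h2
        have : X.presheaf.germ ⊤ _ (hN₀ z) b - (ψ g s z).hom (ε L) =
            (X.presheaf.germ ⊤ _ (hN₀ z) b - (ψ g s z).hom (ε (r n))) +
              (ψ g s z).hom (ε (r n - L)) := by
          rw [map_sub, map_sub]; ring
        rw [this]
        rw [Ideal.map_pow] at h3
        exact Ideal.pow_right_mono (map_ψ_le_maximalIdeal g s z) n h3
      have hkrull := Ideal.iInf_pow_eq_bot_of_isLocalRing
        (maximalIdeal (X.presheaf.stalk (g.fiberι s z))) Ideal.IsPrime.ne_top'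
      have : X.presheaf.germ ⊤ _ (hN₀ z) b - (ψ g s z).hom (ε L) ∈
          ⨅ n, maximalIdeal (X.presheaf.stalk (g.fiberι s z)) ^ n := by
        rw [Ideal.mem_iInf]; exact hmem
      rw [hkrull, Ideal.mem_bot, sub_eq_zero] at this
      rw [this]
      exact ψ_germ g s ⊤ trivial a' z
    -- the difference
    set c : Γ(X, ⊤) := g.appTop.hom a' - b with hc
    have hcfib : ∀ z : ↥(g.fiber s), X.presheaf.germ ⊤ _ (hN₀ z) c = 0 := by
      intro z
      rw [hc, map_sub, hfib z, sub_self]
    -- the support of `c` is closed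
    let Z : Set X := {x | X.presheaf.germ ⊤ x trivial c ≠ 0}
    have hZclosed : IsClosed Z := by
      rw [← isOpen_compl_iff, isOpen_iff_forall_mem_open]
      intro x hx
      have hx0 : X.presheaf.germ ⊤ x trivial c = 0 := by
        by_contra h; exact hx h
      have hx1 : X.presheaf.germ ⊤ x trivial c = X.presheaf.germ ⊤ x trivial 0 := by
        rw [hx0, map_zero]
      obtain ⟨W, hxW, iU, iV, hres⟩ :=
        X.presheaf.germ_eq (U := ⊤) (V := ⊤) x (by trivial) (by trivial) c 0 hx1
      refine ⟨W, fun y hy => ?_, W.2, hxW⟩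
      change ¬ (X.presheaf.germ ⊤ y trivial c ≠ 0)
      rw [not_not]
      have := X.presheaf.germ_res_apply iU y hy c
      rw [← this, hres, map_zero, map_zero]
    have hZempty : Z = ∅ := by
      by_contra hne
      obtain ⟨x, hx⟩ := Set.nonempty_iff_ne_empty.mpr hne
      have hcl : IsClosed (g '' Z) := g.isClosedMap _ hZclosed
      have hs_mem : s ∈ g '' Z := (hspec (g x)).mem_closed hcl ⟨x, hx, rfl⟩
      obtain ⟨x', hx', hgx'⟩ := hs_mem
      obtain ⟨z, rfl⟩ := hall x' hgx'
      exact hx' (hcfib z)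
    have hc0 : c = 0 := by
      apply TopCat.Presheaf.section_ext X.sheaf
      intro x hx
      have : x ∉ Z := by rw [hZempty]; exact Set.notMem_empty x
      change ¬ (X.presheaf.germ ⊤ x trivial c ≠ 0) at this
      rw [not_not] at this
      exact this.trans (map_zero _).symm
    rw [hc, sub_eq_zero] at hc0
    exact hc0

end Groth.Agent.Lib.Helper24.Rigid
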